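import Cfsg.Agent.H42.BlockSpan
import Cfsg.Agent.H26.BlockFun
import Cfsg.Agent.H40.BlockSets
import Cfsg.Agent.H43.Constituents
import Cfsg.Prelude.Def_BrauerPairs

/-!
# The block over a stable block of a normal subgroup of `p`-power index
-/

set_option autoImplicit false

open scoped ComplexConjugate

namespace Cfsg.Agent.H42

open H43 (irrConj restrMult)
open H26 (omegaFun)

universe u

variable {G : Type u} [Group G] [Fintype G] {N : Subgroup G} [hNn : N.Normal] [Fintype N]

omit hNn in
/-- Extending by zero off a subgroup does not change a weighted sum. -/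
theorem sum_subgroupBlockCoeff_mul (c : Set (Cfsg.IrrCharacter N)) (f : G → ℂ) :
    ∑ g : G, Cfsg.subgroupBlockCoeff N c g * f g = ∑ n : N, Cfsg.blockCoeff c n * f n := by
  classical
  rw [← Finset.sum_filter_of_ne (p := fun g : G => g ∈ N) (fun g _ hg => by
    by_contra h
    simp [Cfsg.subgroupBlockCoeff, h] at hg)]
  rw [Finset.sum_subtype (F := (inferInstance : Fintype N)) _ (p := fun g : G => g ∈ N) (by simp) _]
  refine Finset.sum_congr rfl fun n _ => ?_
  simp [Cfsg.subgroupBlockCoeff, n.2]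

omit [Fintype G] [Fintype N] in
/-- Conjugation does not change the degree. -/
theorem irrConj_one (x : G) (θ : Cfsg.IrrCharacter N) : (irrConj N x θ).1 1 = θ.1 1 := by
  rw [H43.irrConj_apply, map_one]

variable {c : Set (Cfsg.IrrCharacter N)}

/-- A stable block gives a class function on the whole group. -/
theorem isClassFunction_subgroupBlockCoeff (hst : ∀ x : G, ∀ θ ∈ c, irrConj N x θ ∈ c) :
    Cfsg.IsClassFunction G (Cfsg.subgroupBlockCoeff N c) := by
  classical
  intro g x
  have hmem : x * g * x⁻¹ ∈ N ↔ g ∈ N := hNn.mem_comm_iff.trans (by rw [inv_mul_cancel_left])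
  simp only [Cfsg.subgroupBlockCoeff]
  by_cases hg : g ∈ N
  · rw [dif_pos (hmem.2 hg), dif_pos hg]
    simp only [H41.blockCoeff_eq_sum]
    congr 1
    refine Finset.sum_bij' (fun θ _ => irrConj N x θ) (fun θ _ => irrConj N x⁻¹ θ)
      (fun θ h => ?_) (fun θ h => ?_) (fun θ _ => ?_) (fun θ _ => ?_) (fun θ _ => ?_)
    · simp only [Finset.mem_filter, Finset.mem_univ, true_and] at h ⊢
      exact hst x θ h
    · simp only [Finset.mem_filter, Finset.mem_univ, true_and] at h ⊢
      exact hst x⁻¹ θ h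
    · rw [H43.irrConj_irrConj]
      exact Subtype.ext (funext fun n => congrArg θ.1 (Subtype.ext (by simp)))
    · rw [H43.irrConj_irrConj]
      exact Subtype.ext (funext fun n => congrArg θ.1 (Subtype.ext (by simp)))
    · rw [irrConj_one]
      congr 2
  · rw [dif_neg (mt hmem.1 hg), dif_neg hg]

/-- The characters of `G` over `c`. -/
def overSet (N : Subgroup G) [Fintype N] (c : Set (Cfsg.IrrCharacter N)) :
    Set (Cfsg.IrrCharacter G) :=
  {χ | ∃ θ ∈ c, restrMult N χ θ ≠ 0}

/-- The constituents of a character over a stable block lie in it. -/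
theorem mem_of_restrMult_ne_zero (hst : ∀ x : G, ∀ θ ∈ c, irrConj N x θ ∈ c)
    {χ : Cfsg.IrrCharacter G} (hχ : χ ∈ overSet N c) {θ : Cfsg.IrrCharacter N}
    (h : restrMult N χ θ ≠ 0) : θ ∈ c := by
  obtain ⟨η, hη, hη'⟩ := hχ
  obtain ⟨x, rfl⟩ := H43.exists_irrConj_of_restrMult_ne_zero N χ hη' h
  exact hst x η hη

/-- A weighted sum of a restriction, constituent by constituent. -/
theorem sum_mul_restr (F : N → ℂ) (χ : Cfsg.IrrCharacter G) :
    ∑ n : N, F n * (χ : G → ℂ) n =
      ∑ θ : Cfsg.IrrCharacter N, (restrMult N χ θ : ℂ) * (omegaFun θ F * θ.1 1) := by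
  have hexp := H43.eq_sum_mult (H43.isCharacter_restr N χ)
  calc ∑ n : N, F n * (χ : G → ℂ) n
      = ∑ n : N, ∑ θ : Cfsg.IrrCharacter N, (restrMult N χ θ : ℂ) * (F n * θ.1 n) := by
        refine Finset.sum_congr rfl fun n _ => ?_
        rw [congrFun hexp n, Finset.sum_apply, Finset.mul_sum]
        refine Finset.sum_congr rfl fun θ _ => ?_
        simp only [restrMult, Pi.smul_apply, smul_eq_mul]
        ring
    _ = _ := by
        rw [Finset.sum_comm]
        refine Finset.sum_congr rfl fun θ _ => ?_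
        rw [omegaFun, div_mul_cancel₀ _ (H26.irr_one_ne_zero θ), Finset.mul_sum]

open scoped Classical in
/-- The extended idempotent is the idempotent of the characters over `c`. -/
theorem blockCoeff_overSet (hst : ∀ x : G, ∀ θ ∈ c, irrConj N x θ ∈ c) :
    Cfsg.blockCoeff (overSet N c) = Cfsg.subgroupBlockCoeff N c := by
  refine H26.eq_of_omegaFun_eq (H26.isClassFunction_blockCoeff _)
    (isClassFunction_subgroupBlockCoeff hst) fun χ => ?_
  rw [H26.omegaFun_blockCoeff, omegaFun, sum_subgroupBlockCoeff_mul, sum_mul_restr]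
  have h1 := H43.apply_one_eq_sum_mult (H43.isCharacter_restr N χ)
  rw [Subgroup.coe_one] at h1
  split_ifs with hχ
  · rw [eq_div_iff (H26.irr_one_ne_zero χ), one_mul, h1]
    refine Finset.sum_congr rfl fun θ _ => ?_
    by_cases hθ : restrMult N χ θ = 0
    · rw [hθ, Nat.cast_zero, zero_mul]
      rw [restrMult] at hθ
      rw [hθ, Nat.cast_zero, zero_mul]
    · rw [H26.omegaFun_blockCoeff, if_pos (mem_of_restrMult_ne_zero hst hχ hθ), one_mul, restrMult, irr_one_eq]
  · rw [Finset.sum_eq_zero, zero_div]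
    intro θ _
    by_cases hθ : restrMult N χ θ = 0
    · rw [hθ, Nat.cast_zero, zero_mul]
    · rw [H26.omegaFun_blockCoeff, if_neg (fun h => hχ ⟨θ, h, hθ⟩), zero_mul, mul_zero]

variable {p : ℕ} [hp : Fact p.Prime] {M : Ideal Cfsg.AlgInt} [M.IsMaximal]

omit [Fintype G] [Fintype N] in
/-- The `p`-regular elements lie in a normal subgroup of `p`-power index. -/
theorem mem_of_regular_of_index [Finite G] {k : ℕ} (hidx : N.index = p ^ k) {g : G}
    (hg : ¬ p ∣ orderOf g) : g ∈ N := by
  rw [← QuotientGroup.eq_one_iff, ← orderOf_eq_one_iff]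
  have h1 : orderOf ((g : G ⧸ N)) ∣ p ^ k := by
    rw [← hidx, Subgroup.index_eq_card]
    exact orderOf_dvd_natCard _
  exact Nat.Coprime.eq_one_of_dvd
    (((Fact.out : p.Prime).coprime_iff_not_dvd.2 fun h => hg
      (h.trans (orderOf_map_dvd (QuotientGroup.mk' N) g))).pow_left k).symm h1

/-- A stable block of a normal subgroup of `p`-power index carries a single block. -/
theorem isPBlock_overSet (hM : Cfsg.IsPModular p M) {k : ℕ} (hidx : N.index = p ^ k)
    (hc : Cfsg.IsPBlock M c) (hst : ∀ x : G, ∀ θ ∈ c, irrConj N x θ ∈ c) :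
    Cfsg.IsPBlock M (overSet N c) := by
  classical
  obtain ⟨θ₀, hθ₀⟩ := H41.IsPBlock.nonempty hc
  obtain ⟨χ, hχ⟩ := H43.exists_above N θ₀
  have hχA : χ ∈ overSet N c := ⟨θ₀, hθ₀, hχ⟩
  refine ⟨χ, Set.Subset.antisymm (fun χ' hχ' => ?_) fun χ' hχ' => ?_⟩
  swap
  · refine H40.mem_of_sameBlock_of_coeff_mem (fun g => ?_) hχA hχ'
    rw [blockCoeff_overSet hst]
    simp only [Cfsg.subgroupBlockCoeff]
    split_ifs with h
    · exact H41.blockCoeff_mem hc _
    · exact (H41.localRing M).zero_mem
  set B := Cfsg.blockOf M (χ : G → ℂ) with hBdef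
  have hB : Cfsg.IsPBlock M B := H41.isPBlock_blockOf χ
  set F : N → ℂ := fun n => Cfsg.blockCoeff B (n : G) with hF
  have hFc : Cfsg.IsClassFunction N F := fun n m => H40.blockCoeff_conj B (n : G) (m : G)
  have hsupp : ∀ g : G, g ∉ N → Cfsg.blockCoeff B g = 0 := fun g hg =>
    H40.blockCoeff_eq_zero_of_singular hM hB
      (Classical.not_not.1 fun h => hg (mem_of_regular_of_index hidx h))
  have hsum : ∀ f : G → ℂ,
      ∑ g, Cfsg.blockCoeff B g * f g = ∑ n : N, F n * f n := by
    intro f
    rw [← Finset.sum_filter_of_ne (p := fun g : G => g ∈ N) (fun g _ hg => by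
      by_contra h
      simp [hsupp g h] at hg)]
    exact Finset.sum_subtype (F := (inferInstance : Fintype N)) _ (p := fun g : G => g ∈ N) (by simp) _
  have hidem : ∀ θ : Cfsg.IrrCharacter N, omegaFun θ F * omegaFun θ F = omegaFun θ F := by
    intro θ
    have hconv : ∀ m : N, ∑ n : N, F n * F (n⁻¹ * m) = F m := by
      intro m
      have h := H40.sum_blockCoeff_mul_blockCoeff B (m : G)
      rw [hsum fun g => Cfsg.blockCoeff B (g⁻¹ * (m : G))] at h
      exact h
    have h1 : ∑ m : N, F m * θ.1 m = omegaFun θ F * ∑ m : N, F m * θ.1 m := by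
      conv_lhs => enter [2, m]; rw [← hconv m, Finset.sum_mul]
      rw [Finset.sum_comm]
      calc ∑ n : N, ∑ m : N, F n * F (n⁻¹ * m) * θ.1 m
          = ∑ n : N, ∑ m : N, F n * (F m * θ.1 (n * m)) := by
            refine Finset.sum_congr rfl fun n _ => Fintype.sum_equiv (Equiv.mulLeft n⁻¹) _ _ fun m => ?_
            simp [mul_assoc]
        _ = ∑ m : N, F m * ∑ n : N, F n * θ.1 (n * m) := by
            rw [Finset.sum_comm]
            exact Finset.sum_congr rfl fun m _ => by
              rw [Finset.mul_sum]; exact Finset.sum_congr rfl fun n _ => by ring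
        _ = _ := by
            rw [Finset.mul_sum]
            refine Finset.sum_congr rfl fun m _ => ?_
            rw [irr_sum_mul θ F hFc m, omegaFun]
            ring
    have h2 := congrArg (fun z : ℂ => z / θ.1 1) h1
    simp only [mul_div_assoc] at h2
    exact h2.symm
  have hcongr : ∀ θ ∈ c, omegaFun θ F = omegaFun θ₀ F := by
    intro θ hθ
    have h := H26.omegaFun_congr hFc (fun n => H41.blockCoeff_mem hB _)
      (H41.sameBlock_of_mem hc hθ hθ₀)
    rcases IsIdempotentElem.iff_eq_zero_or_one.1 (hidem θ) with e | e <;>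
      rcases IsIdempotentElem.iff_eq_zero_or_one.1 (hidem θ₀) with e' | e' <;>
      rw [e, e'] at h ⊢
    · obtain ⟨h1, h2⟩ := H41.memLocalIdeal_iff_res.1 h
      have h3 : H41.res M (-(1 : H41.localRing M)) = 0 := by
        rw [← h2]
        exact congrArg _ (Subtype.ext (by simp))
      simp at h3
    · obtain ⟨h1, h2⟩ := H41.memLocalIdeal_iff_res.1 h
      have h3 : H41.res M (1 : H41.localRing M) = 0 := by
        rw [← h2]
        exact congrArg _ (Subtype.ext (by simp))
      simp at h3
  have hω : ∀ η ∈ overSet N c, omegaFun η (Cfsg.blockCoeff B) = omegaFun θ₀ F := by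
    intro η hη
    rw [omegaFun, hsum, sum_mul_restr, div_eq_iff (H26.irr_one_ne_zero η)]
    have h1 := H43.apply_one_eq_sum_mult (H43.isCharacter_restr N η)
    rw [Subgroup.coe_one] at h1
    rw [h1, Finset.mul_sum]
    refine Finset.sum_congr rfl fun θ _ => ?_
    by_cases hθ : restrMult N η θ = 0
    · rw [hθ, Nat.cast_zero, zero_mul]
      rw [restrMult] at hθ
      rw [hθ, Nat.cast_zero, zero_mul, mul_zero]
    · rw [hcongr θ (mem_of_restrMult_ne_zero hst hη hθ), restrMult, irr_one_eq]
      ring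
  have h1 := hω χ hχA
  rw [H26.omegaFun_blockCoeff, if_pos (H41.mem_blockOf_self χ)] at h1
  have h2 := hω χ' hχ'
  rw [← h1, H26.omegaFun_blockCoeff] at h2
  by_contra h
  rw [if_neg h] at h2
  exact zero_ne_one h2

/-- The defect of the block over a stable block. -/
theorem blockDefect_overSet (hM : Cfsg.IsPModular p M) {k : ℕ} (hidx : N.index = p ^ k)
    (hc : Cfsg.IsPBlock M c) (hst : ∀ x : G, ∀ θ ∈ c, irrConj N x θ ∈ c) :
    Cfsg.blockDefect p (overSet N c) = Cfsg.blockDefect p c + k := by
  classical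
  have hB := isPBlock_overSet hM hidx hc hst
  have h1 := factorization_sum_sq_degree hM hB
  have h2 := factorization_sum_sq_degree hM hc
  have key : ∀ (H : Type u) [Group H] [Fintype H] (A : Set (Cfsg.IrrCharacter H)),
      ((∑ χ ∈ blockFinset A, Cfsg.charDegree (χ : H → ℂ) ^ 2 : ℕ) : ℂ) =
        (Nat.card H : ℂ) * Cfsg.blockCoeff A 1 := by
    intro H _ _ A
    rw [H40.blockCoeff_eq_sum, ← mul_assoc,
      mul_inv_cancel₀ (Nat.cast_ne_zero.2 Nat.card_pos.ne'), one_mul]
    push_cast [blockFinset]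
    refine Finset.sum_congr rfl fun χ _ => ?_
    rw [irr_one_eq, Complex.conj_natCast, sq]
  have h3 : (∑ χ ∈ blockFinset (overSet N c), Cfsg.charDegree (χ : G → ℂ) ^ 2) =
      N.index * ∑ θ ∈ blockFinset c, Cfsg.charDegree (θ : N → ℂ) ^ 2 := by
    have he : Cfsg.blockCoeff (overSet N c) 1 = Cfsg.blockCoeff c 1 := by
      rw [blockCoeff_overSet hst, Cfsg.subgroupBlockCoeff]
      simp only [dif_pos N.one_mem]
      rfl
    have h : ((∑ χ ∈ blockFinset (overSet N c), Cfsg.charDegree (χ : G → ℂ) ^ 2 : ℕ) : ℂ) =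
        ((N.index * ∑ θ ∈ blockFinset c, Cfsg.charDegree (θ : N → ℂ) ^ 2 : ℕ) : ℂ) := by
      rw [key, Nat.cast_mul, key, he, ← N.card_mul_index]
      push_cast
      ring
    exact_mod_cast h
  have hS0 : (∑ θ ∈ blockFinset c, Cfsg.charDegree (θ : N → ℂ) ^ 2) ≠ 0 := by
    obtain ⟨θ, hθ⟩ := H41.IsPBlock.nonempty hc
    exact (Finset.sum_pos (fun ξ _ => pow_pos (charDegree_pos ξ) 2)
      ⟨θ, mem_blockFinset.2 hθ⟩).ne'
  rw [h3, Nat.factorization_mul N.index_ne_zero_of_finite hS0, Finsupp.add_apply, h2, hidx,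
    Nat.factorization_pow, Finsupp.smul_apply, smul_eq_mul, hp.out.factorization_self, mul_one]
    at h1
  have haG : (Nat.card G).factorization p = (Nat.card N).factorization p + k := by
    rw [← N.card_mul_index, hidx, Nat.factorization_mul Nat.card_pos.ne'
      (pow_ne_zero _ hp.out.ne_zero), Finsupp.add_apply, Nat.factorization_pow, Finsupp.smul_apply,
      smul_eq_mul, hp.out.factorization_self, mul_one]
  have hb1 : Cfsg.blockDefect p (overSet N c) ≤ (Nat.card G).factorization p := Nat.sub_le _ _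
  have hb2 : Cfsg.blockDefect p c ≤ (Nat.card N).factorization p := Nat.sub_le _ _
  omega

/-- A stable block of a normal subgroup of `p`-power index has a member of height zero fixed by
the whole group. -/
theorem exists_fixed_height_zero (hM : Cfsg.IsPModular p M) {k : ℕ} (hidx : N.index = p ^ k)
    (hc : Cfsg.IsPBlock M c) (hst : ∀ x : G, ∀ θ ∈ c, irrConj N x θ ∈ c) :
    ∃ θ ∈ c, Cfsg.blockHeight p c (θ : N → ℂ) = 0 ∧ ∀ x : G, irrConj N x θ = θ := by
  classical
  have hB := isPBlock_overSet hM hidx hc hst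
  obtain ⟨χ, hχ, -, hv⟩ := exists_height_zero (p := p) hB
  rw [blockDefect_overSet hM hidx hc hst] at hv
  obtain ⟨θ, hθ⟩ := H43.exists_restrMult_ne_zero N χ
  have hθc := mem_of_restrMult_ne_zero hst hχ hθ
  -- the degree is the multiplicity times the orbit length times the degree of `θ`
  set O : Finset (Cfsg.IrrCharacter N) := Finset.univ.image (fun x : G => irrConj N x θ) with hO
  have hdeg : Cfsg.charDegree (χ : G → ℂ) =
      O.card * (restrMult N χ θ * Cfsg.charDegree (θ : N → ℂ)) := by
    have h := H43.apply_one_eq_sum_mult (H43.isCharacter_restr N χ)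
    rw [Subgroup.coe_one, H43.irr_charDegree_spec] at h
    have h2 : Cfsg.charDegree χ.1 =
        ∑ ψ : Cfsg.IrrCharacter N, restrMult N χ ψ * Cfsg.charDegree ψ.1 := by
      unfold restrMult
      exact_mod_cast h
    rw [h2, ← Finset.sum_subset (Finset.subset_univ O) (fun ψ _ hψ => ?_),
      Finset.sum_congr rfl (g := fun _ => restrMult N χ θ * Cfsg.charDegree (θ : N → ℂ))
        (fun ψ hψ => ?_), Finset.sum_const, smul_eq_mul]
    · obtain ⟨x, -, rfl⟩ := Finset.mem_image.1 hψ
      rw [H43.restrMult_irrConj, H43.irrConj, H43.charDegree_irrCongr]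
    · by_contra hne
      obtain ⟨x, hx⟩ := H43.exists_irrConj_of_restrMult_ne_zero N χ hθ (left_ne_zero_of_mul hne)
      exact hψ (Finset.mem_image.2 ⟨x, Finset.mem_univ _, hx⟩)
  have hOne : O.card ≠ 0 := Finset.card_ne_zero.2 (Finset.univ_nonempty.image _)
  have hθd := (charDegree_pos θ).ne'
  rw [hdeg, Nat.factorization_mul hOne (mul_ne_zero hθ hθd), Finsupp.add_apply,
    Nat.factorization_mul hθ hθd, Finsupp.add_apply] at hv
  have haG : (Nat.card G).factorization p = (Nat.card N).factorization p + k := by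
    rw [← N.card_mul_index, hidx, Nat.factorization_mul Nat.card_pos.ne'
      (pow_ne_zero _ hp.out.ne_zero), Finsupp.add_apply, Nat.factorization_pow, Finsupp.smul_apply,
      smul_eq_mul, hp.out.factorization_self, mul_one]
  have hθv := factorization_degree_add_defect (p := p) hc hθc
  refine ⟨θ, hθc, by omega, ?_⟩
  -- the orbit is a single point
  let S : Subgroup G :=
    { carrier := {x | irrConj N x θ = θ}
      one_mem' := Subtype.ext (funext fun n => congrArg θ.1 (Subtype.ext (by simp)))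
      mul_mem' := fun {x y} hx hy => by
        show irrConj N (x * y) θ = θ
        rw [← H43.irrConj_irrConj, show irrConj N x θ = θ from hx, show irrConj N y θ = θ from hy]
      inv_mem' := fun {x} hx => by
        show irrConj N x⁻¹ θ = θ
        conv_lhs => rw [show θ = irrConj N x θ from hx.symm, H43.irrConj_irrConj, mul_inv_cancel]
        exact Subtype.ext (funext fun n => congrArg θ.1 (Subtype.ext (by simp))) }
  have hNS : N ≤ S := fun n hn => Subtype.ext (funext fun m => by
    rw [H43.irrConj_apply]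
    exact (congrArg θ.1 (Subtype.ext (by simp))).trans (H26.irr_conj θ m ⟨n, hn⟩))
  have hOS : O.card = S.index := by
    rw [Subgroup.index_eq_card, ← Nat.card_eq_finsetCard]
    refine (Nat.card_congr (Equiv.ofBijective (fun q : G ⧸ S =>
      (⟨irrConj N (Quotient.out q)⁻¹ θ, Finset.mem_image.2 ⟨_, Finset.mem_univ _, rfl⟩⟩ : O))
      ⟨fun q q' h => ?_, fun η => ?_⟩)).symm
    · have h' : irrConj N (Quotient.out q)⁻¹ θ = irrConj N (Quotient.out q')⁻¹ θ :=
        congrArg Subtype.val h
      rw [← QuotientGroup.out_eq' q, ← QuotientGroup.out_eq' q', QuotientGroup.eq]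
      show irrConj N ((Quotient.out q)⁻¹ * Quotient.out q') θ = θ
      rw [← H43.irrConj_irrConj, h', H43.irrConj_irrConj, inv_mul_cancel]
      exact Subtype.ext (funext fun n => congrArg θ.1 (Subtype.ext (by simp)))
    · obtain ⟨η, hη⟩ := η
      obtain ⟨x, -, rfl⟩ := Finset.mem_image.1 hη
      refine ⟨QuotientGroup.mk x⁻¹, Subtype.ext ?_⟩
      obtain ⟨h, hh⟩ := QuotientGroup.mk_out_eq_mul S x⁻¹
      show irrConj N (Quotient.out (QuotientGroup.mk x⁻¹ : G ⧸ S))⁻¹ θ = irrConj N x θ
      rw [hh, mul_inv_rev, inv_inv, ← H43.irrConj_irrConj,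
        show irrConj N (h : G)⁻¹ θ = θ from S.inv_mem h.2]
  obtain ⟨j, -, hj⟩ : ∃ j ≤ k, S.index = p ^ j :=
    (Nat.dvd_prime_pow hp.out).1 (hidx ▸ Subgroup.index_dvd_of_le hNS)
  have hj0 : j = 0 := by
    rw [hOS, hj, Nat.factorization_pow, Finsupp.smul_apply, smul_eq_mul,
      hp.out.factorization_self, mul_one] at hv
    omega
  rw [hj0, pow_zero, Subgroup.index_eq_one] at hj
  exact fun x => (hj ▸ Subgroup.mem_top x : x ∈ S)

end Cfsg.Agent.H42
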