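import Cfsg.Agent.H42.Covered
import Cfsg.Agent.H26.PrincipalRestrict

/-!
# The principal block and a normal subgroup
-/

set_option autoImplicit false

open scoped ComplexConjugate

namespace Cfsg.Agent.H42

open H43 (irrConj restrMult)
open Cfsg (IrrCharacter)

universe u

variable {G : Type u} [Group G] [Fintype G] {N : Subgroup G} [hNn : N.Normal] [Fintype N]
  {p : ℕ} [hp : Fact p.Prime] {M : Ideal Cfsg.AlgInt}

omit hp [Fintype G] in
/-- Conjugation fixes the trivial character. -/
theorem irrConj_oneIrr (x : G) : irrConj N x (H26.oneIrr N) = H26.oneIrr N :=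
  Subtype.ext (funext fun n => by rw [H43.irrConj_apply, H26.oneIrr_val, H26.oneIrr_val])

omit hp in
/-- The trivial character lies over the trivial character. -/
theorem restrMult_oneIrr : restrMult N (H26.oneIrr G) (H26.oneIrr N) = 1 := by
  classical
  refine H43.mult_eq_of_classInner ?_
  rw [Nat.cast_one]
  exact (H26.classInner_irr (H26.oneIrr N) (H26.oneIrr N)).trans (if_pos rfl)

/-- Constituents of members of the principal block lie in the principal block. -/
theorem constituent_mem_principal (hM : Cfsg.IsPModular p M) {χ : IrrCharacter G}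
    (hχ : χ ∈ Cfsg.principalBlock M G) {θ : IrrCharacter N} (hθ : restrMult N χ θ ≠ 0) :
    θ ∈ Cfsg.principalBlock M N := by
  have := hM.2.1
  have hb := H26.isPBlock_principalBlock (M := M) N
  have hS := H26.frSetup_blockStab (G := G) hb
  have : Fintype (H26.blockStab N (Cfsg.principalBlock M N)) := Fintype.ofFinite _
  have h1 : H26.CoversG (Cfsg.principalBlock M N) (H26.oneIrr G) := by
    refine ⟨H26.oneIrr N, H26.oneIrr_mem_principalBlock N, ?_⟩
    rw [H43.classInner_eq_mult (H43.isCharacter_restr N _), Nat.cast_ne_zero]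
    exact (restrMult_oneIrr (N := N)).trans_ne one_ne_zero
  obtain ⟨φ, hφ, hne⟩ := hS.coversG_congr (χ := H26.oneIrr G) (χ' := χ) hχ h1
  rw [H43.classInner_eq_mult (H43.isCharacter_restr N χ), Nat.cast_ne_zero] at hne
  obtain ⟨x, rfl⟩ := H43.exists_irrConj_of_restrMult_ne_zero N χ hne hθ
  have h2 := H26.sameBlock_irrConj (M := M) N x (θ := H26.oneIrr N) (θ' := φ) hφ
  rw [irrConj_oneIrr] at h2
  exact h2

/-- Every member of the principal block of `N` lies under the principal block of `G`. -/
theorem exists_over_principal (hM : Cfsg.IsPModular p M) {θ : IrrCharacter N}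
    (hθ : θ ∈ Cfsg.principalBlock M N) :
    ∃ χ ∈ Cfsg.principalBlock M G, restrMult N χ θ ≠ 0 := by
  have := hM.2.1
  exact exists_over_of_covers hM (H26.isPBlock_principalBlock G) (H26.isPBlock_principalBlock N)
    (H26.oneIrr_mem_principalBlock G) (H26.oneIrr_mem_principalBlock N)
    ((restrMult_oneIrr (N := N)).trans_ne one_ne_zero) hθ

omit hp in
/-- The degree of the induced character. -/
theorem sum_restrMult_mul_degree (θ : IrrCharacter N) :
    ∑ χ : IrrCharacter G, restrMult N χ θ * Cfsg.charDegree (χ : G → ℂ) =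
      N.index * Cfsg.charDegree (θ : N → ℂ) := by
  classical
  apply Nat.cast_injective (R := ℂ)
  push_cast
  have hreg : ∀ n : N, ∑ χ : IrrCharacter G, χ.1 1 * χ.1 (n : G) =
      if n = 1 then (Nat.card G : ℂ) else 0 := by
    intro n
    have h := congrFun (H26.char_leftRegular_eq_sum (G := G)) (n : G)
    rw [H26.char_leftRegular, Finset.sum_apply] at h
    simp only [Pi.smul_apply, smul_eq_mul, OneMemClass.coe_eq_one] at h
    exact h.symm
  have h1 : ∀ χ : IrrCharacter G, (restrMult N χ θ : ℂ) * (Cfsg.charDegree (χ : G → ℂ) : ℂ) =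
      (Nat.card N : ℂ)⁻¹ * ∑ n : N, conj (θ.1 n) * (χ.1 1 * χ.1 n) := by
    intro χ
    rw [← irr_one_eq, restrMult, ← H43.classInner_eq_mult (H43.isCharacter_restr N χ),
      Cfsg.classInner, mul_assoc, Finset.sum_mul]
    congr 1
    exact Finset.sum_congr rfl fun n _ => by ring
  simp only [h1, ← Finset.mul_sum]
  rw [Finset.sum_comm]
  simp only [← Finset.mul_sum, hreg, mul_ite, mul_zero, Finset.sum_ite_eq', Finset.mem_univ,
    if_true]
  rw [irr_one_eq θ, Complex.conj_natCast,
    show (Nat.card G : ℂ) = (Nat.card N : ℂ) * N.index by rw [← Nat.cast_mul, N.card_mul_index]]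
  have : (Nat.card N : ℂ) ≠ 0 := Nat.cast_ne_zero.2 Nat.card_pos.ne'
  field_simp

omit hp in
/-- The degree of a character as a sum over the constituents. -/
theorem degree_eq_sum_restrMult (χ : IrrCharacter G) :
    Cfsg.charDegree (χ : G → ℂ) =
      ∑ θ : IrrCharacter N, restrMult N χ θ * Cfsg.charDegree (θ : N → ℂ) := by
  apply Nat.cast_injective (R := ℂ)
  push_cast
  rw [← irr_one_eq]
  exact H43.apply_one_eq_sum_mult (H43.isCharacter_restr N χ)

end Cfsg.Agent.H42
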