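import Cfsg.Agent.H42.PrincipalPPrime
import Cfsg.Agent.H42.PrincipalCover
import Cfsg.Agent.H42.BlockSpan
import Cfsg.Agent.H43.PPrimeDegree
import Cfsg.Agent.H43.CoprimeExt
import Cfsg.Agent.H22.PResidual
import Cfsg.Agent.H40.BrauerMap
import Cfsg.Agent.H22.TateComplement
import Cfsg.Agent.H24.PGroupBasic

/-!
# The Thompson theorem for the principal block
-/

set_option autoImplicit false
set_option maxHeartbeats 400000

open scoped ComplexConjugate

namespace Cfsg.Agent.H42

open Cfsg (IrrCharacter)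
open H43 (irrConj restrMult)

universe u

variable {G : Type u} [Group G] [Fintype G] {p : ℕ} [hp : Fact p.Prime] {M : Ideal Cfsg.AlgInt}

open scoped Classical in
/-- Some nontrivial member of the principal block of a normal subgroup of `p`-power index, of
degree prime to `p`, is invariant. -/
theorem exists_invariant_pPrime (hM : Cfsg.IsPModular p M) {N : Subgroup G} [N.Normal] [Fintype N]
    (P : Sylow p G) (hNP : N ⊔ (P : Subgroup G) = ⊤) (hpN : p ∣ Nat.card N) :
    ∃ θ ∈ Cfsg.principalBlock M N, θ ≠ H26.oneIrr N ∧ ¬ p ∣ Cfsg.charDegree (θ : N → ℂ) ∧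
      ∀ x : G, irrConj N x θ = θ := by
  have := hM.2.1
  let act : MulAction (P : Subgroup G) (IrrCharacter N) :=
    { smul := fun x η => irrConj N ((x : G))⁻¹ η
      one_smul := fun η => Subtype.ext (funext fun n => by
        show η.1 (MulAut.conjNormal ((1 : (P : Subgroup G)) : G)⁻¹ n) = η.1 n
        simp)
      mul_smul := fun x y η => by
        show irrConj N ((x * y : (P : Subgroup G)) : G)⁻¹ η = _
        rw [Subgroup.coe_mul, mul_inv_rev, ← H43.irrConj_irrConj]
        rfl }
  have hfix : ∀ η : IrrCharacter N, η ∈ MulAction.fixedPoints (P : Subgroup G) (IrrCharacter N) →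
      ∀ x : G, irrConj N x η = η := by
    intro η hη x
    let S : Subgroup G :=
      { carrier := {g | irrConj N g η = η}
        one_mem' := Subtype.ext (funext fun n => by rw [H43.irrConj_apply]; simp)
        mul_mem' := fun {a b} ha hb => by
          show irrConj N (a * b) η = η
          rw [← H43.irrConj_irrConj, show irrConj N a η = η from ha]
          exact hb
        inv_mem' := fun {a} ha => by
          show irrConj N a⁻¹ η = η
          conv_lhs => rw [← show irrConj N a η = η from ha]
          rw [H43.irrConj_irrConj, mul_inv_cancel]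
          exact Subtype.ext (funext fun n => by rw [H43.irrConj_apply]; simp) }
    have hle : N ⊔ (P : Subgroup G) ≤ S := by
      refine sup_le (fun n hn => ?_) (fun q hq => ?_)
      · refine Subtype.ext (funext fun m => ?_)
        rw [H43.irrConj_apply, show MulAut.conjNormal n m = (⟨n, hn⟩ : N) * m * (⟨n, hn⟩ : N)⁻¹ from
          Subtype.ext (by simp [MulAut.conjNormal_apply]), H26.irr_conj]
      · have h : irrConj N ((⟨q, hq⟩⁻¹ : (P : Subgroup G)) : G)⁻¹ η = η :=
          hη (⟨q, hq⟩⁻¹ : (P : Subgroup G))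
        show irrConj N q η = η
        simpa using h
    exact hle (hNP ▸ Subgroup.mem_top x)
  by_contra hno
  push Not at hno
  have hB := H26.isPBlock_principalBlock (M := M) N
  have h1 := H26.oneIrr_mem_principalBlock (M := M) N
  have hconj : ∀ (x : G) (η : IrrCharacter N), η ∈ Cfsg.principalBlock M N →
      irrConj N x η ∈ Cfsg.principalBlock M N := by
    intro x η hη
    have h2 := H26.sameBlock_irrConj (M := M) N x (θ := H26.oneIrr N) (θ' := η) hη
    rw [irrConj_oneIrr] at h2
    exact h2
  let f : IrrCharacter N → ZMod p := fun η =>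
    if η ∈ Cfsg.principalBlock M N then ((Cfsg.charDegree (η : N → ℂ) : ZMod p)) ^ 2 else 0
  have htot : ∑ η, f η = 0 := by
    have hd1 : Cfsg.charDegree ((H26.oneIrr N : IrrCharacter N) : N → ℂ) = 1 :=
      charDegree_of_eq_nat (by rw [H26.oneIrr_val, Nat.cast_one])
    have hdef : Cfsg.blockDefect p (Cfsg.principalBlock M N) = (Nat.card N).factorization p := by
      have h0 : (0 : ℕ) ∈ (fun χ : IrrCharacter N =>
          (Cfsg.charDegree (χ : N → ℂ)).factorization p) '' Cfsg.principalBlock M N :=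
        ⟨H26.oneIrr N, h1, by simp [hd1]⟩
      rw [Cfsg.blockDefect, Nat.sInf_eq_zero.2 (Or.inl h0), Nat.sub_zero]
    have hf := factorization_sum_sq_degree hM hB
    rw [hdef] at hf
    have ha := Nat.Prime.factorization_pos_of_dvd hp.out Nat.card_pos.ne' hpN
    have hdvd : p ∣ ∑ χ ∈ blockFinset (Cfsg.principalBlock M N),
        Cfsg.charDegree (χ : N → ℂ) ^ 2 := Nat.dvd_of_factorization_pos (by omega)
    have h := (ZMod.natCast_eq_zero_iff _ p).2 hdvd
    push_cast at h
    rw [← h]
    simp only [f]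
    rw [← Finset.sum_filter]
    refine Finset.sum_congr (Finset.ext fun χ => ?_) fun _ _ => rfl
    simp
  rw [H40.sum_eq_sum_fixedPoints P.2 (fun m => by
    rw [nsmul_eq_mul, ZMod.natCast_self, zero_mul]) f (fun x η => ?_),
    Finset.sum_eq_single (H26.oneIrr N)] at htot
  · simp only [f, if_pos h1] at htot
    rw [charDegree_of_eq_nat (n := 1) (by rw [H26.oneIrr_val, Nat.cast_one])] at htot
    simp at htot
  · intro η hη hne
    simp only [f]
    by_cases hm : η ∈ Cfsg.principalBlock M N
    · rw [if_pos hm]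
      by_cases hd : p ∣ Cfsg.charDegree (η : N → ℂ)
      · rw [(ZMod.natCast_eq_zero_iff _ p).2 hd, zero_pow two_ne_zero]
      · obtain ⟨x, hx⟩ := hno η hm hne hd
        exact absurd (hfix η (Finset.mem_filter.1 hη).2 x) hx
    · rw [if_neg hm]
  · intro h
    refine absurd (Finset.mem_filter.2 ⟨Finset.mem_univ _, fun x => ?_⟩) h
    exact irrConj_oneIrr _
  · show f (irrConj N (x : G)⁻¹ η) = f η
    simp only [f]
    have hiff : irrConj N (x : G)⁻¹ η ∈ Cfsg.principalBlock M N ↔ η ∈ Cfsg.principalBlock M N := by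
      refine ⟨fun h => ?_, hconj _ η⟩
      have := hconj (x : G) _ h
      rwa [H43.irrConj_irrConj, inv_mul_cancel, show irrConj N 1 η = η from
        Subtype.ext (funext fun n => by rw [H43.irrConj_apply]; simp)] at this
    rw [show Cfsg.charDegree (irrConj N (x : G)⁻¹ η : N → ℂ) = Cfsg.charDegree (η : N → ℂ) from
      H43.charDegree_irrCongr _ _]
    simp only [hiff]

/-- A group generated by its `p`-elements has linear characters trivial on `O^p`. -/
theorem hom_eq_one_on_pResidual (hgen : Subgroup.closure {g : G | ∃ k, orderOf g = p ^ k} = ⊤)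
    (f : G →* ℂˣ) {n : G} (hn : n ∈ Cfsg.pResidual p G) : f n = 1 := by
  let S : Subgroup G :=
    { carrier := {g | ∃ k : ℕ, f g ^ (p ^ k) = 1}
      one_mem' := ⟨0, by simp⟩
      mul_mem' := fun {a b} ⟨i, hi⟩ ⟨j, hj⟩ => ⟨i + j, by
        rw [map_mul, mul_pow, pow_add, pow_mul, hi, one_pow, one_mul, mul_comm, pow_mul, hj,
          one_pow]⟩
      inv_mem' := fun {a} ⟨i, hi⟩ => ⟨i, by rw [map_inv, inv_pow, hi, inv_one]⟩ }
  have hS : ∀ g : G, g ∈ S := by
    intro g
    have hle : Subgroup.closure {g : G | ∃ k, orderOf g = p ^ k} ≤ S :=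
      (Subgroup.closure_le S).2 fun x ⟨k, hk⟩ =>
        ⟨k, by rw [← map_pow, ← hk, pow_orderOf_eq_one, map_one]⟩
    exact hle (hgen ▸ Subgroup.mem_top g)
  have hrange : IsPGroup p f.range := by
    rintro ⟨x, g, rfl⟩
    obtain ⟨k, hk⟩ := hS g
    exact ⟨k, Subtype.ext (by simpa using hk)⟩
  have hle := H22.pResidual_le_ker (p := p) f.rangeRestrict hrange
  rw [MonoidHom.ker_rangeRestrict] at hle
  exact hle hn

/-- If all members of degree prime to `p` of the principal block are linear, and the group is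
generated by `p`-elements, there is a normal `p`-complement. -/
theorem not_dvd_pResidual_of_linear (hM : Cfsg.IsPModular p M)
    (hgen : Subgroup.closure {g : G | ∃ k, orderOf g = p ^ k} = ⊤)
    (hlin : ∀ χ ∈ Cfsg.principalBlock M G, ¬ p ∣ Cfsg.charDegree (χ : G → ℂ) →
      Cfsg.charDegree (χ : G → ℂ) = 1) :
    ¬ p ∣ Nat.card (Cfsg.pResidual p G) := by
  classical
  intro hpN
  have : (Cfsg.pResidual p G).Normal := H22.pResidual_normal
  set N := Cfsg.pResidual p G with hN
  have : Fintype N := Fintype.ofFinite N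
  obtain ⟨P⟩ : Nonempty (Sylow p G) := inferInstance
  obtain ⟨θ, hθ, hne, hd, hinv⟩ :=
    exists_invariant_pPrime hM P (H22.pResidual_sup_sylow P) hpN
  obtain ⟨k, hk⟩ := H22.exists_index_pResidual_eq (G := G) (p := p)
  have hdet : ¬ p ∣ Cfsg.detOrder θ.1 := H43.not_dvd_detOrder H22.pResidual_pResidual_eq_top θ
  have hcop : Nat.Coprime N.index (Cfsg.detOrder θ.1 * Cfsg.charDegree θ.1) := by
    rw [hk]
    exact Nat.Coprime.pow_left k ((Nat.Prime.coprime_iff_not_dvd hp.out).2
      fun h => (hp.out.dvd_mul.1 h).elim hdet hd)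
  obtain ⟨E, hE, -⟩ := H43.exists_coprime_ext θ hinv hcop
  obtain ⟨χ, hχ, hχd, hover⟩ := exists_pPrime_over' hM P ⊤ le_top le_top
    (fun g hg => H41.mem_of_regular_of_index N ⟨k, hk⟩ (by rwa [Subgroup.orderOf_coe])) hθ hd
    (H43.irrCongr Subgroup.topEquiv E) (fun n => by rw [H43.irrCongr_apply, ← hE]; rfl)
  obtain ⟨f, hf⟩ := H26.exists_hom_of_isCharacter_one (H26.irr_isCharacter χ)
    (by rw [irr_one_eq, hlin χ hχ hχd, Nat.cast_one])
  apply hne
  refine H43.eq_oneIrr_of_mult_ne_zero (φ := fun n : N => χ.1 n) (fun n => ?_) hover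
  rw [← hf, ← hf, hom_eq_one_on_pResidual hgen f n.2,
    hom_eq_one_on_pResidual hgen f ((1 : N).2)]

/-- Linear members under a hypothesis pass to the normal subgroup generated by the `p`-elements. -/
theorem linear_of_over (hM : Cfsg.IsPModular p M) {K : Subgroup G} [K.Normal] [Fintype K]
    (P : Sylow p G) (hPK : (P : Subgroup G) ≤ K)
    (hlin : ∀ χ ∈ Cfsg.principalBlock M G, ¬ p ∣ Cfsg.charDegree (χ : G → ℂ) →
      Cfsg.charDegree (χ : G → ℂ) = 1)
    {θ : IrrCharacter K} (hθ : θ ∈ Cfsg.principalBlock M K)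
    (hd : ¬ p ∣ Cfsg.charDegree (θ : K → ℂ)) : Cfsg.charDegree (θ : K → ℂ) = 1 := by
  classical
  obtain ⟨χ, hχ, hχd, hover⟩ := exists_pPrime_over' hM P K le_rfl hPK
    (fun g _ => g.2) hθ hd θ (fun n => rfl)
  have h := degree_eq_sum_restrMult (N := K) χ
  rw [hlin χ hχ hχd] at h
  have h2 : restrMult K χ θ * Cfsg.charDegree (θ : K → ℂ) ≤ 1 := by
    rw [h]
    exact Finset.single_le_sum (f := fun η : IrrCharacter K =>
      restrMult K χ η * Cfsg.charDegree (η : K → ℂ)) (fun _ _ => Nat.zero_le _) (Finset.mem_univ θ)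
  have h3 := Nat.mul_pos (Nat.pos_of_ne_zero hover) (charDegree_pos θ)
  exact Nat.eq_one_of_mul_eq_one_left (le_antisymm h2 h3)

/-- **Thompson's theorem for the principal block**. -/
theorem hasNormalPComplement_of_linear (hM : Cfsg.IsPModular p M)
    (hlin : ∀ χ ∈ Cfsg.principalBlock M G, ¬ p ∣ Cfsg.charDegree (χ : G → ℂ) →
      Cfsg.charDegree (χ : G → ℂ) = 1) : Cfsg.HasNormalPComplement p G := by
  classical
  obtain ⟨P⟩ : Nonempty (Sylow p G) := inferInstance
  set K : Subgroup G := Subgroup.closure {g : G | ∃ k, orderOf g = p ^ k} with hK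
  have hKn : K.Normal := by
    refine ⟨fun n hn g => ?_⟩
    have hle : K ≤ K.comap (MulAut.conj g).toMonoidHom := (Subgroup.closure_le _).2 fun x ⟨k, hk⟩ =>
      Subgroup.subset_closure ⟨k, by rw [← hk]; exact (MulAut.conj g).orderOf_eq x⟩
    exact hle hn
  have : Fintype K := Fintype.ofFinite K
  have hPK : (P : Subgroup G) ≤ K := fun x hx => by
    obtain ⟨k, hk⟩ := IsPGroup.iff_orderOf.1 P.2 ⟨x, hx⟩
    exact Subgroup.subset_closure ⟨k, by rwa [Subgroup.orderOf_mk] at hk⟩
  have hgen : Subgroup.closure {g : K | ∃ k, orderOf g = p ^ k} = ⊤ := by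
    apply Subgroup.map_injective K.subtype_injective
    rw [MonoidHom.map_closure, ← MonoidHom.range_eq_map, Subgroup.range_subtype]
    conv_rhs => rw [hK]
    congr 1
    ext g
    constructor
    · rintro ⟨x, ⟨k, hk⟩, rfl⟩
      exact ⟨k, by rw [← hk]; exact Subgroup.orderOf_coe x⟩
    · rintro ⟨k, hk⟩
      exact ⟨⟨g, Subgroup.subset_closure ⟨k, hk⟩⟩, ⟨k, by rw [Subgroup.orderOf_mk, hk]⟩, rfl⟩
  have hnd := not_dvd_pResidual_of_linear (G := K) hM hgen
    (fun θ hθ hd => linear_of_over hM P hPK hlin hθ hd)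
  have : (Cfsg.pResidual p K).Normal := H22.pResidual_normal
  set N := (Cfsg.pResidual p K).map K.subtype with hN
  have hNn : N.Normal := by
    refine ⟨fun n hn g => ?_⟩
    obtain ⟨m, hm, rfl⟩ := hn
    refine ⟨MulAut.conjNormal g m, ?_, rfl⟩
    exact H22.map_pResidual_le (MulAut.conjNormal g : MulAut K).toMonoidHom
      (Subgroup.mem_map_of_mem _ hm)
  have : Fintype N := Fintype.ofFinite N
  have hNK : N ≤ K := Subgroup.map_subtype_le _
  -- the quotient of `K` by its `p`-residual is a copy of `P`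
  set R := Cfsg.pResidual p K
  have hc := H22.isComplement'_pResidual_of_not_dvd (P.subtype hPK) hnd
  let q : (P : Subgroup G) →* K ⧸ R := (QuotientGroup.mk' R).comp (Subgroup.inclusion hPK)
  have hq : Function.Bijective q := by
    constructor
    · rw [injective_iff_map_eq_one]
      intro x hx
      have h1 : Subgroup.inclusion hPK x ∈ R := (QuotientGroup.eq_one_iff _).1 hx
      have h2 : Subgroup.inclusion hPK x ∈ ((P.subtype hPK : Sylow p K) : Subgroup K) := by
        rw [Sylow.coe_subtype]
        exact Subgroup.mem_subgroupOf.2 x.2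
      exact Subgroup.inclusion_injective hPK
        ((Subgroup.mem_bot.1 (hc.disjoint.le_bot ⟨h1, h2⟩)).trans (map_one _).symm)
    · intro y
      obtain ⟨k, rfl⟩ := QuotientGroup.mk_surjective y
      obtain ⟨⟨r, t⟩, hrt⟩ := hc.2 k
      simp only at hrt
      have ht : ((t : K) : G) ∈ (P : Subgroup G) := by
        have := t.2
        simp only [Sylow.coe_subtype, Subgroup.mem_subgroupOf] at this
        exact this
      refine ⟨⟨((t : K) : G), ht⟩, ?_⟩
      show ((Subgroup.inclusion hPK ⟨((t : K) : G), ht⟩ : K) : K ⧸ R) = (k : K ⧸ R)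
      rw [← hrt, QuotientGroup.mk_mul, (QuotientGroup.eq_one_iff (r : K)).2 r.2, one_mul]
      exact congrArg _ (Subtype.ext rfl)
  refine H22.hasNormalPComplement_iff.2 ?_
  -- every linear character of `P` kills its intersection with `O^p(G)`
  have hkill : ∀ (x : (P : Subgroup G)), (x : G) ∈ Cfsg.pResidual p G →
      ∀ μ : (P : Subgroup G) →* ℂˣ, μ x = 1 := by
    intro x hx μ
    let μK : K →* ℂˣ := (μ.comp (MulEquiv.ofBijective q hq).symm.toMonoidHom).comp
      (QuotientGroup.mk' R)
    have hμN : ∀ n : N, μK (Subgroup.inclusion hNK n) = 1 := by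
      intro n
      obtain ⟨m, hm, hmn⟩ := n.2
      have : Subgroup.inclusion hNK n = m := Subtype.ext hmn.symm
      rw [this, MonoidHom.comp_apply, QuotientGroup.mk'_apply, (QuotientGroup.eq_one_iff m).2 hm,
        map_one]
    let η : IrrCharacter K := ⟨_, H26.isIrrCharacter_hom μK⟩
    have hreg : ∀ g : K, ¬ p ∣ orderOf g → (g : G) ∈ N := fun g hg =>
      ⟨g, H22.mem_pResidual_of_coprime ((Nat.Prime.coprime_iff_not_dvd hp.out).2 hg).symm, rfl⟩
    have hηB : η ∈ Cfsg.principalBlock M K := by
      have := hM.2.1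
      exact extension_mem_principalBlock hM K hNK hreg
        (θ := H26.oneIrr N) (H26.oneIrr_mem_principalBlock N) η (fun n => by
          show (μK (Subgroup.inclusion hNK n) : ℂ) = 1
          rw [hμN, Units.val_one])
    have hηd : Cfsg.charDegree (η : K → ℂ) = 1 :=
      charDegree_of_eq_nat (by show (μK 1 : ℂ) = _; rw [map_one, Units.val_one, Nat.cast_one])
    obtain ⟨χ, hχ, hχd, hover⟩ := exists_pPrime_over' hM P K le_rfl hPK
      (fun g _ => g.2) hηB (by rw [hηd]; exact hp.out.not_dvd_one) η (fun n => rfl)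
    have hχ1 := hlin χ hχ hχd
    obtain ⟨f, hf⟩ := H26.exists_hom_of_isCharacter_one (H26.irr_isCharacter χ)
      (by rw [irr_one_eq, hχ1, Nat.cast_one])
    have hres : (⟨_, H26.isIrrCharacter_hom (f.comp K.subtype)⟩ : IrrCharacter K) = η := by
      by_contra hne
      refine hover (H43.mult_eq_of_classInner ?_)
      rw [Nat.cast_zero, show (fun k : K => χ.1 k) =
        (⟨_, H26.isIrrCharacter_hom (f.comp K.subtype)⟩ : IrrCharacter K).1 from
          funext fun k => (hf k).symm, H26.classInner_irr, if_neg hne]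
    have h1 : (f (x : G) : ℂ) = (μK (Subgroup.inclusion hPK x) : ℂ) :=
      congrFun (congrArg Subtype.val hres) (Subgroup.inclusion hPK x)
    have h2 : μK (Subgroup.inclusion hPK x) = μ x :=
      congrArg μ ((MulEquiv.ofBijective q hq).symm_apply_apply x)
    rw [h2] at h1
    -- a `p`-element with image of order prime to `p`
    set m := Nat.card G / p ^ (Nat.card G).factorization p with hm
    have hfm : f (x : G) ^ m = 1 := by
      let S : Subgroup G :=
        { carrier := {g | f g ^ m = 1}
          one_mem' := by simp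
          mul_mem' := fun {a b} ha hb => by
            show f (a * b) ^ m = 1
            rw [map_mul, mul_pow, show f a ^ m = 1 from ha, show f b ^ m = 1 from hb, one_mul]
          inv_mem' := fun {a} ha => by
            show f a⁻¹ ^ m = 1
            rw [map_inv, inv_pow, show f a ^ m = 1 from ha, inv_one] }
      have hle : Cfsg.pResidual p G ≤ S := (Subgroup.closure_le S).2 fun g hg => by
        show f g ^ m = 1
        rw [← map_pow, orderOf_dvd_iff_pow_eq_one.1 ?_, map_one]
        refine (Nat.Coprime.pow_right ((Nat.card G).factorization p) hg).dvd_of_dvd_mul_left ?_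
        rw [hm, Nat.ordProj_mul_ordCompl_eq_self]
        exact orderOf_dvd_natCard g
      exact hle hx
    obtain ⟨j, hj⟩ := IsPGroup.iff_orderOf.1 P.2 x
    have hfp : f (x : G) ^ (p ^ j) = 1 := by
      rw [← map_pow, ← Subgroup.coe_pow, ← hj, pow_orderOf_eq_one, Subgroup.coe_one, map_one]
    have hfx : f (x : G) = 1 := orderOf_eq_one_iff.1 (Nat.eq_one_of_dvd_coprimes
      (Nat.Coprime.pow_left j (Nat.coprime_ordCompl hp.out Nat.card_pos.ne'))
      (orderOf_dvd_of_pow_eq_one hfp) (orderOf_dvd_of_pow_eq_one hfm))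
    exact Units.ext (by rw [← h1, hfx])
  have : (Cfsg.pResidual p G).Normal := H22.pResidual_normal
  have hN' : Cfsg.HasNormalPComplement p (Cfsg.pResidual p G) := by
    refine H22.hasNormalPComplement_of_inf_le_frattini P _ fun x hx => ?_
    refine ⟨⟨x, hx.2⟩, ?_, rfl⟩
    refine H24.commutator_le_frattini P.2 ?_
    by_contra hc
    have : Finite (Abelianization (P : Subgroup G)) := Quotient.finite _
    obtain ⟨φ, hφ⟩ := CommGroup.exists_apply_ne_one_of_hasEnoughRootsOfUnity
      (Abelianization (P : Subgroup G)) ℂ (a := Abelianization.of ⟨x, hx.2⟩) fun h => hc (by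
        rw [← Abelianization.ker_of]; exact h)
    exact hφ (hkill ⟨x, hx.2⟩ hx.1 (φ.comp Abelianization.of))
  have h := H22.hasNormalPComplement_iff.1 hN'
  rw [H22.pResidual_pResidual_eq_top, Subgroup.card_top] at h
  exact h

end Cfsg.Agent.H42
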