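import Cfsg.Agent.H26.CoverDefect
import Cfsg.Agent.H42.StableBlock
import Cfsg.Agent.H42.BlockTransport
import Cfsg.Agent.S4723

/-!
# Every member of a covered block lies under the covering block
-/

set_option autoImplicit false

open scoped ComplexConjugate

namespace Cfsg.Agent.H42

open H43 (irrConj restrMult)

universe u

variable {G : Type u} [Group G] [Fintype G] {N : Subgroup G} [hNn : N.Normal] [Fintype N]
  {p : ℕ} [hp : Fact p.Prime] {M : Ideal Cfsg.AlgInt}

/-- Conjugation preserves `regInt`. -/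
theorem regInt_irrConj (x : G) (η θ : Cfsg.IrrCharacter N) :
    regInt p (irrConj N x η) (irrConj N x θ) = regInt p η θ := by
  have h : (regInt p (irrConj N x η) (irrConj N x θ) : ℂ) = (regInt p η θ : ℂ) := by
    rw [regInt_spec, regInt_spec]
    congr 1
    refine Eq.trans ?_ (H43.classInner_congr (MulAut.conjNormal x : MulAut N) (regRes p η.1) θ.1)
    congr 1
    funext n
    simp only [regRes, H43.irrConj_apply, MulEquiv.orderOf_eq (MulAut.conjNormal x : MulAut N) n]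
  exact_mod_cast h

/-- Restricting commutes with cutting off the singular elements. -/
theorem regRes_coe (f : G → ℂ) (n : N) : regRes p f (n : G) = regRes p (fun m : N => f m) n := by
  simp [regRes, Subgroup.orderOf_coe]

open scoped Classical in
/-- If no member of `B` lies over `θ`, then weighting `regInt` by the restriction of a member of `B`
gives zero at `θ`. -/
theorem sum_restrMult_mul_regInt_eq_zero (hM : Cfsg.IsPModular p M)
    {B : Set (Cfsg.IrrCharacter G)} (hB : Cfsg.IsPBlock M B) {χ : Cfsg.IrrCharacter G} (hχ : χ ∈ B)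
    {θ : Cfsg.IrrCharacter N} (hθ : ∀ ξ ∈ B, restrMult N ξ θ = 0) :
    ∑ η : Cfsg.IrrCharacter N, (restrMult N χ η : ℤ) * regInt p η θ = 0 := by
  set P : ℂ := ((p ^ (Nat.card N).factorization p : ℕ) : ℂ) with hP
  have h1 : Cfsg.classInner (fun n : N => regRes p χ.1 n) θ.1 = 0 := by
    have hf : (fun n : N => regRes p χ.1 n) = ∑ ξ ∈ blockFinset B,
        ((regInt p χ ξ : ℂ) / ((p ^ (Nat.card G).factorization p : ℕ) : ℂ)) •
          (fun n : N => ξ.1 (n : G)) := by
      funext n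
      rw [regRes_eq_sum_block hM hB hχ, Finset.sum_apply]
      rfl
    rw [hf, H26.classInner_sum_left]
    refine Finset.sum_eq_zero fun ξ hξ => ?_
    rw [H26.classInner_smul_left, H43.classInner_eq_mult (H43.isCharacter_restr N ξ),
      show H43.mult (fun n : N => ξ.1 n) θ = 0 from hθ ξ (mem_blockFinset.1 hξ), Nat.cast_zero,
      mul_zero]
  have h2 : (fun n : N => regRes p χ.1 n) = ∑ η : Cfsg.IrrCharacter N,
      (restrMult N χ η : ℂ) • regRes p η.1 := by
    funext n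
    have hexp := congrFun (H43.eq_sum_mult (H43.isCharacter_restr N χ)) n
    rw [regRes_coe, Finset.sum_apply]
    by_cases hn : p ∣ orderOf n
    · simp [regRes_of_singular hn]
    · rw [regRes_of_regular hn, hexp, Finset.sum_apply]
      simp [regRes_of_regular hn, restrMult]
  rw [h2, H26.classInner_sum_left] at h1
  have h3 : ((∑ η : Cfsg.IrrCharacter N, (restrMult N χ η : ℤ) * regInt p η θ : ℤ) : ℂ) =
      P * ∑ η : Cfsg.IrrCharacter N,
        Cfsg.classInner ((restrMult N χ η : ℂ) • regRes p η.1) θ.1 := by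
    push_cast
    rw [Finset.mul_sum]
    refine Finset.sum_congr rfl fun η _ => ?_
    rw [H26.classInner_smul_left, regInt_spec, hP]
    push_cast
    ring
  rw [h1, mul_zero] at h3
  exact_mod_cast h3

open scoped Classical in
/-- Inside `b`, weighting by a restriction is summing over the orbit under the stabiliser of `b`. -/
theorem sum_restrMult_mul_eq_orbit [M.IsMaximal] (hM : Cfsg.IsPModular p M)
    {b : Set (Cfsg.IrrCharacter N)} (hb : Cfsg.IsPBlock M b) {χ : Cfsg.IrrCharacter G}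
    {η : Cfsg.IrrCharacter N} (hη : η ∈ b) (hχ : restrMult N χ η ≠ 0)
    {θ : Cfsg.IrrCharacter N} (hθ : θ ∈ b) :
    ∑ ζ : Cfsg.IrrCharacter N, (restrMult N χ ζ : ℤ) * regInt p ζ θ =
      (restrMult N χ η : ℤ) *
        ∑ ζ ∈ (blockFinset b).filter (fun ζ => ∃ x : G, irrConj N x η = ζ), regInt p ζ θ := by
  rw [Finset.mul_sum]
  refine Eq.trans (Finset.sum_subset (Finset.subset_univ
    ((blockFinset b).filter (fun ζ => ∃ x : G, irrConj N x η = ζ))) fun ζ _ hζ => ?_).symm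
    (Finset.sum_congr rfl fun ζ hζ => ?_)
  · by_cases h0 : restrMult N χ ζ = 0
    · rw [h0, Nat.cast_zero, zero_mul]
    · have hζb : ζ ∉ b := fun h => hζ (Finset.mem_filter.2 ⟨mem_blockFinset.2 h,
        H43.exists_irrConj_of_restrMult_ne_zero N χ hχ h0⟩)
      rw [regInt_comm, regInt_eq_zero_of_notMem hM hb hθ hζb, mul_zero]
  · obtain ⟨x, rfl⟩ := (Finset.mem_filter.1 hζ).2
    rw [H43.restrMult_irrConj]

/-- All members of a covered block lie under the covering block. -/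
theorem exists_over_of_covers (hM : Cfsg.IsPModular p M) {B : Set (Cfsg.IrrCharacter G)}
    (hB : Cfsg.IsPBlock M B) {b : Set (Cfsg.IrrCharacter N)} (hb : Cfsg.IsPBlock M b)
    {χ₁ : Cfsg.IrrCharacter G} (hχ₁ : χ₁ ∈ B) {η₁ : Cfsg.IrrCharacter N} (hη₁ : η₁ ∈ b)
    (hcov : restrMult N χ₁ η₁ ≠ 0) {θ : Cfsg.IrrCharacter N} (hθ : θ ∈ b) :
    ∃ χ ∈ B, restrMult N χ θ ≠ 0 := by
  classical
  have := hM.2.1
  set T := H26.blockStab N b with hTdef
  have hS := H26.frSetup_blockStab (G := G) hb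
  have hconj : ∀ (g : G) (h h' : ↥N), (h' : G) = g * h * g⁻¹ →
      ∀ φ : Cfsg.IrrCharacter ↥N, (irrConj N g⁻¹ φ).1 h' = φ.1 h := by
    intro g h h' e φ
    rw [H43.irrConj_apply]
    refine congrArg φ.1 (Subtype.ext ?_)
    rw [MulAut.conjNormal_apply, e]
    group
  have hpull : ∀ (g : G) (n : ↥N), ∃ k : ↥N, (n : G) = g * (k : G) * g⁻¹ := fun g n =>
    ⟨⟨g⁻¹ * n * g, by simpa using hNn.conj_mem n n.2 g⁻¹⟩, by simp [mul_assoc]⟩
  obtain ⟨θ₀, hθ₀, h0, S, hST, hSiff, hSdvd⟩ := S4723.result p M hM N b hb T (fun g => by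
    rw [← T.inv_mem_iff, hS.stab]
    refine ⟨fun h φ hφ φ' he => ?_, fun h φ hφ => h φ hφ _ fun k k' e => hconj g k k' e φ⟩
    have : φ' = irrConj N g⁻¹ φ := Subtype.ext (funext fun n => by
      obtain ⟨k, e⟩ := hpull g n
      rw [he k n e, hconj g k n e])
    exact this ▸ h φ hφ)
  set O := (blockFinset b).filter (fun ζ => ∃ x : G, irrConj N x θ₀ = ζ) with hO
  -- the orbit has length prime to `p`
  have hk : ¬ p ∣ O.card := by
    have hSθ : ∀ g ∈ T, (g ∈ S ↔ irrConj N g⁻¹ θ₀ = θ₀) := by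
      intro g hg
      rw [hSiff]
      refine ⟨fun h => Subtype.ext (funext fun n => ?_), fun h => ⟨hg, fun k k' e => ?_⟩⟩
      · obtain ⟨k, e⟩ := hpull g n
        rw [hconj g k n e, h.2 k n e]
      · have h2 := hconj g k k' e θ₀
        rwa [h] at h2
    suffices O.card = S.relIndex T by rwa [this]
    rw [Subgroup.relIndex, Subgroup.index_eq_card, ← Nat.card_eq_finsetCard]
    refine (Nat.card_congr (Equiv.ofBijective (fun q : T ⧸ S.subgroupOf T =>
      (⟨irrConj N ((Quotient.out q : T) : G)⁻¹ θ₀, Finset.mem_filter.2 ⟨mem_blockFinset.2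
        ((hS.stab _).1 (T.inv_mem (Quotient.out q).2) θ₀ hθ₀), _, rfl⟩⟩ : O))
      ⟨fun q q' h => ?_, fun ζ => ?_⟩)).symm
    · have h' : irrConj N ((Quotient.out q : T) : G)⁻¹ θ₀ =
          irrConj N ((Quotient.out q' : T) : G)⁻¹ θ₀ := congrArg Subtype.val h
      rw [← QuotientGroup.out_eq' q, ← QuotientGroup.out_eq' q', QuotientGroup.eq,
        Subgroup.mem_subgroupOf, Subgroup.coe_mul, InvMemClass.coe_inv,
        hSθ _ (T.mul_mem (T.inv_mem (Quotient.out q).2) (Quotient.out q').2), mul_inv_rev, inv_inv,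
        ← H43.irrConj_irrConj, ← h', H43.irrConj_irrConj, inv_mul_cancel]
      exact Subtype.ext (funext fun n => congrArg θ₀.1 (Subtype.ext (by simp)))
    · obtain ⟨ζ, hζ⟩ := ζ
      obtain ⟨hζb, x, rfl⟩ := Finset.mem_filter.1 hζ
      have hx : x ∈ T := (hS.irrConj_mem_iff hθ₀).1 (mem_blockFinset.1 hζb)
      refine ⟨QuotientGroup.mk (⟨x, hx⟩ : T)⁻¹, Subtype.ext ?_⟩
      obtain ⟨h, hh⟩ := QuotientGroup.mk_out_eq_mul (S.subgroupOf T) (⟨x, hx⟩ : T)⁻¹
      show irrConj N _ θ₀ = irrConj N x θ₀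
      rw [hh, Subgroup.coe_mul, InvMemClass.coe_inv, mul_inv_rev, inv_inv,
        ← H43.irrConj_irrConj, (hSθ _ ((h : T)).2).1 h.2]
  -- orbit sums do not vanish
  have hnz : ∀ φ ∈ b, ∑ ζ ∈ O, regInt p ζ φ ≠ 0 := by
    intro φ hφ hzero
    set v := (Cfsg.charDegree (θ₀ : N → ℂ)).factorization p with hv
    set w := (Cfsg.charDegree (φ : N → ℂ)).factorization p with hw
    set d₀ := Cfsg.charDegree (θ₀ : N → ℂ) with hd₀
    set d₁ := Cfsg.charDegree (φ : N → ℂ) with hd₁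
    set n₀ := regInt p θ₀ θ₀ with hn₀
    have hterm : ∀ ζ ∈ O, (p : ℤ) ^ (v + w + 1) ∣ regInt p ζ φ * d₀ - n₀ * d₁ := by
      intro ζ hζ
      obtain ⟨hζb, x, rfl⟩ := Finset.mem_filter.1 hζ
      set ζ := irrConj N x θ₀
      have hζb' := mem_blockFinset.1 hζb
      have hζd : Cfsg.charDegree (ζ : N → ℂ) = d₀ := H43.charDegree_irrCongr _ _
      have e1 := pow_dvd_regInt_sub p hM ζ (H41.sameBlock_of_mem hb hφ hθ₀)
      have e2 := pow_dvd_regInt_sub p hM θ₀ (H41.sameBlock_of_mem hb hζb' hθ₀)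
      rw [hζd, ← hd₀, ← hv, regInt_comm p θ₀ ζ, ← hn₀] at e2
      rw [← hd₁, ← hw, ← hd₀, ← hv] at e1
      have hd₀' : (d₀ : ℤ) = (p : ℤ) ^ v * ((d₀ / p ^ v : ℕ) : ℤ) := by
        exact_mod_cast (Nat.ordProj_mul_ordCompl_eq_self d₀ p).symm
      have e3 : (p : ℤ) ^ (v + 1) ∣ regInt p ζ θ₀ - n₀ := by
        refine IsCoprime.dvd_of_dvd_mul_right
          (((Nat.Prime.coprime_iff_not_dvd hp.out).2
            (Nat.not_dvd_ordCompl hp.out (charDegree_pos θ₀).ne')).cast.pow_left) ?_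
        refine (mul_dvd_mul_iff_left
          (pow_ne_zero v (show (p : ℤ) ≠ 0 by exact_mod_cast hp.out.ne_zero))).1 ?_
        rw [← pow_add]
        refine dvd_trans (dvd_of_eq (by rw [add_assoc])) (e2.trans (dvd_of_eq ?_))
        rw [← hd₀, ← hv, hd₀']
        ring
      have e4 : (p : ℤ) ^ (v + w + 1) ∣ (regInt p ζ θ₀ - n₀) * d₁ := by
        rw [show v + w + 1 = v + 1 + w by ring, pow_add]
        exact mul_dvd_mul e3 (by exact_mod_cast Nat.ordProj_dvd d₁ p)
      have e5 : (p : ℤ) ^ (v + w + 1) ∣ regInt p ζ φ * d₀ - regInt p ζ θ₀ * d₁ := by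
        rw [add_comm v w]
        exact e1
      refine (dvd_add e5 e4).trans (dvd_of_eq ?_)
      ring
    have hsum : (p : ℤ) ^ (v + w + 1) ∣ (O.card : ℤ) * (n₀ * d₁) := by
      have h := Finset.dvd_sum hterm
      rw [Finset.sum_sub_distrib, ← Finset.sum_mul, hzero, zero_mul, Finset.sum_const,
        nsmul_eq_mul, zero_sub, dvd_neg] at h
      exact h
    have hd₁' : (d₁ : ℤ) = (p : ℤ) ^ w * ((d₁ / p ^ w : ℕ) : ℤ) := by
      exact_mod_cast (Nat.ordProj_mul_ordCompl_eq_self d₁ p).symm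
    rw [show v + w + 1 = w + (v + 1) by ring, pow_add, hd₁',
      show (O.card : ℤ) * (n₀ * ((p : ℤ) ^ w * ((d₁ / p ^ w : ℕ) : ℤ))) =
        (p : ℤ) ^ w * (((O.card * (d₁ / p ^ w) : ℕ) : ℤ) * n₀) by push_cast; ring,
      mul_dvd_mul_iff_left (pow_ne_zero w (show (p : ℤ) ≠ 0 by exact_mod_cast hp.out.ne_zero))]
      at hsum
    refine not_pow_succ_dvd_regInt hM hb hθ₀ h0 hθ₀ (IsCoprime.dvd_of_dvd_mul_left ?_ hsum)
    exact ((Nat.Prime.coprime_iff_not_dvd hp.out).2 fun h => (hp.out.dvd_mul.1 h).elim hk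
      (Nat.not_dvd_ordCompl hp.out (charDegree_pos φ).ne')).cast.pow_left
  by_contra hnone
  push Not at hnone
  by_cases hθ₀c : ∃ χ ∈ B, restrMult N χ θ₀ ≠ 0
  · -- the fixed member is covered
    obtain ⟨χ, hχ, hne⟩ := hθ₀c
    have h := sum_restrMult_mul_regInt_eq_zero hM hB hχ (θ := θ) hnone
    rw [sum_restrMult_mul_eq_orbit hM hb hθ₀ hne hθ] at h
    rcases mul_eq_zero.1 h with h | h
    · exact hne (by exact_mod_cast h)
    · exact hnz θ hθ h
  · -- the fixed member is not covered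
    push Not at hθ₀c
    set O₁ := (blockFinset b).filter (fun ζ => ∃ x : G, irrConj N x η₁ = ζ) with hO₁
    have hrow : ∀ ζ ∈ O, ∑ ψ ∈ O₁, regInt p ψ ζ = 0 := by
      intro ζ hζ
      obtain ⟨hζb, x, rfl⟩ := Finset.mem_filter.1 hζ
      have h := sum_restrMult_mul_regInt_eq_zero hM hB hχ₁ (θ := irrConj N x θ₀)
        fun ξ hξ => by rw [H43.restrMult_irrConj]; exact hθ₀c ξ hξ
      rw [sum_restrMult_mul_eq_orbit hM hb hη₁ hcov (mem_blockFinset.1 hζb)] at h
      exact (mul_eq_zero.1 h).resolve_left (by exact_mod_cast hcov)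
    have hinv : ∀ ψ ∈ O₁, ∑ ζ ∈ O, regInt p ζ ψ = ∑ ζ ∈ O, regInt p ζ η₁ := by
      intro ψ hψ
      obtain ⟨hψb, x, rfl⟩ := Finset.mem_filter.1 hψ
      have hx : x ∈ T := (hS.irrConj_mem_iff hη₁).1 (mem_blockFinset.1 hψb)
      symm
      refine Finset.sum_bij' (fun ζ _ => irrConj N x ζ) (fun ζ _ => irrConj N x⁻¹ ζ)
        (fun ζ hζ => ?_) (fun ζ hζ => ?_) (fun ζ _ => ?_) (fun ζ _ => ?_) (fun ζ _ => ?_)
      · obtain ⟨hζb, y, rfl⟩ := Finset.mem_filter.1 hζ
        exact Finset.mem_filter.2 ⟨mem_blockFinset.2 ((hS.stab x).1 hx _ (mem_blockFinset.1 hζb)),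
          y * x, (H43.irrConj_irrConj N x y θ₀).symm⟩
      · obtain ⟨hζb, y, rfl⟩ := Finset.mem_filter.1 hζ
        exact Finset.mem_filter.2 ⟨mem_blockFinset.2
          ((hS.stab x⁻¹).1 (T.inv_mem hx) _ (mem_blockFinset.1 hζb)),
          y * x⁻¹, (H43.irrConj_irrConj N x⁻¹ y θ₀).symm⟩
      · rw [H43.irrConj_irrConj, mul_inv_cancel]
        exact Subtype.ext (funext fun n => congrArg ζ.1 (Subtype.ext (by simp)))
      · rw [H43.irrConj_irrConj, inv_mul_cancel]
        exact Subtype.ext (funext fun n => congrArg ζ.1 (Subtype.ext (by simp)))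
      · rw [regInt_irrConj]
    have h1 : (O₁.card : ℤ) * ∑ ζ ∈ O, regInt p ζ η₁ = 0 := by
      rw [← nsmul_eq_mul, ← Finset.sum_const, ← Finset.sum_congr rfl hinv, Finset.sum_comm]
      refine Finset.sum_eq_zero fun ζ hζ => ?_
      rw [← hrow ζ hζ]
      exact Finset.sum_congr rfl fun ψ _ => regInt_comm p ζ ψ
    rcases mul_eq_zero.1 h1 with h | h
    · have hmem : η₁ ∈ O₁ := Finset.mem_filter.2 ⟨mem_blockFinset.2 hη₁, 1,
        Subtype.ext (funext fun n => congrArg η₁.1 (Subtype.ext (by simp)))⟩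
      exact (Finset.card_ne_zero.2 ⟨η₁, hmem⟩) (by exact_mod_cast h)
    · exact hnz η₁ hη₁ h

end Cfsg.Agent.H42
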