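import Cfsg.Agent.H40.BlockDefect
import Cfsg.Agent.H42.Heights

/-!
# Central characters on classes of the exact defect of a block
-/

set_option autoImplicit false

namespace Cfsg.Agent.H42

universe u

variable {G : Type u} [Group G] [Finite G] {p : ℕ} [hp : Fact p.Prime] {M : Ideal Cfsg.AlgInt}
  {B : Set (Cfsg.IrrCharacter G)}

omit hp in
/-- The exponents of `p` in a centraliser and in its index. -/
theorem centralizer_factorization_add_index (p : ℕ) (g : G) :
    (Nat.card (Subgroup.centralizer ({g} : Set G))).factorization p +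
      (Subgroup.centralizer ({g} : Set G)).index.factorization p =
        (Nat.card G).factorization p := by
  rw [← (Subgroup.centralizer ({g} : Set G)).card_mul_index,
    Nat.factorization_mul Nat.card_pos.ne' (Subgroup.centralizer _).index_ne_zero_of_finite,
    Finsupp.add_apply]

/-- A unit coefficient of the idempotent forces the defect of the class to be at most that of the
block. -/
theorem centralizer_factorization_le_defect [M.IsMaximal] (hM : Cfsg.IsPModular p M)
    (hB : Cfsg.IsPBlock M B) {g : G} (hg : H40.CoeffUnit M B g) :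
    (Nat.card (Subgroup.centralizer ({g} : Set G))).factorization p ≤
      Cfsg.blockDefect p B := by
  obtain ⟨D, hD⟩ := H40.exists_isDefectGroup hM hB
  obtain ⟨Q, hQ⟩ := H40.exists_isSylowIn p (Subgroup.centralizer ({g} : Set G))
  have h := ((H40.classDefLE_defectGroup hM hB hg hD).subConj hQ).card_le
  rw [H40.card_isSylowIn hQ, H40.card_defectGroup hM hB hD] at h
  exact (pow_le_pow_iff_right₀ hp.out.one_lt).1 h

/-- A unit central character forces the defect of the class to be at least that of the block. -/
theorem defect_le_centralizer_factorization [M.IsMaximal] (hM : Cfsg.IsPModular p M)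
    (hB : Cfsg.IsPBlock M B) {χ : Cfsg.IrrCharacter G} (hχ : χ ∈ B) {g : G}
    (hg : ¬ Cfsg.MemLocalIdeal M (Cfsg.centralChar (χ : G → ℂ) g)) :
    Cfsg.blockDefect p B ≤ (Nat.card (Subgroup.centralizer ({g} : Set G))).factorization p := by
  obtain ⟨ψ, hψ, -, hv⟩ := exists_height_zero (p := p) hB
  have h := H40.index_factorization_le hM (H40.not_memLocalIdeal_centralChar_of_mem hB hχ hψ hg)
  have h' := centralizer_factorization_add_index p g
  omega

/-- The classes that carry the value at a block idempotent. -/
def IsExactClass (p d : ℕ) (g : G) : Prop :=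
  ¬ p ∣ orderOf g ∧ (Nat.card (Subgroup.centralizer ({g} : Set G))).factorization p = d

omit [Finite G] hp in
/-- Being an exact class is a property of the conjugacy class. -/
theorem isExactClass_conj {p d : ℕ} {g h : G} (e : IsConj g h) (hg : IsExactClass p d g) :
    IsExactClass p d h := by
  obtain ⟨u, rfl⟩ := isConj_iff.1 e
  refine ⟨by rw [orderOf_conj_eq]; exact hg.1, ?_⟩
  have : Nat.card (Subgroup.centralizer ({u * g * u⁻¹} : Set G)) =
      Nat.card (Subgroup.centralizer ({g} : Set G)) := by
    refine Nat.card_congr ((MulAut.conj u⁻¹).toEquiv.subtypeEquiv fun x => ?_)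
    simp only [Subgroup.mem_centralizer_singleton_iff, MulEquiv.toEquiv_eq_coe,
      EquivLike.coe_coe, MulAut.conj_apply, inv_inv]
    constructor
    · intro hx
      calc u⁻¹ * x * u * g = u⁻¹ * (x * (u * g * u⁻¹)) * u := by group
        _ = u⁻¹ * (u * g * u⁻¹ * x) * u := by rw [hx]
        _ = g * (u⁻¹ * x * u) := by group
    · intro hx
      calc x * (u * g * u⁻¹) = u * (u⁻¹ * x * u * g) * u⁻¹ := by group
        _ = u * (g * (u⁻¹ * x * u)) * u⁻¹ := by rw [hx]
        _ = u * g * u⁻¹ * x := by group
  rw [this]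
  exact hg.2

open scoped Classical in
/-- The value at the idempotent of `B` of the reduced central character of a member of a block of
the same defect only involves classes of that defect. -/
theorem sum_exact_coeff_mul_omegaBar [M.IsMaximal] [Fintype (ConjClasses G)]
    (hM : Cfsg.IsPModular p M) (hB : Cfsg.IsPBlock M B) {ψ : Cfsg.IrrCharacter G}
    (hd : Cfsg.blockDefect p (Cfsg.blockOf M (ψ : G → ℂ)) = Cfsg.blockDefect p B) :
    ∑ C ∈ Finset.univ.filter (fun C : ConjClasses G =>
        IsExactClass p (Cfsg.blockDefect p B) (Quotient.out C)),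
      ((H41.idemBar hB : H41.groupAlgCenter (H41.ResField M) G) :
          MonoidAlgebra (H41.ResField M) G).coeff (Quotient.out C) *
        H41.omegaBar M ψ (H41.classSumZ (H41.ResField M) (Quotient.out C)) =
      if ψ ∈ B then 1 else 0 := by
  rw [← H41.omegaBar_idemBar hB ψ]
  conv_rhs => rw [H41.center_eq_sum_classSumZ (H41.idemBar hB), map_sum]
  simp only [map_smul, smul_eq_mul]
  refine Finset.sum_subset (Finset.subset_univ _) fun C _ hC => ?_
  by_contra hne
  obtain ⟨h1, h2⟩ := ne_zero_and_ne_zero_of_mul hne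
  rw [H41.coeff_idemBar_ne_zero_iff] at h1
  rw [Ne, H41.omegaBar_classSumZ_eq_zero_iff] at h2
  refine hC (Finset.mem_filter.2 ⟨Finset.mem_univ _,
    H40.not_dvd_orderOf_of_coeffUnit hM hB h1, le_antisymm ?_ ?_⟩)
  · exact centralizer_factorization_le_defect hM hB h1
  · rw [← hd]
    exact defect_le_centralizer_factorization hM (H41.isPBlock_blockOf ψ)
      (H41.mem_blockOf_self ψ) h2

end Cfsg.Agent.H42

namespace Cfsg.Agent.H42

/-- Irreducible characters agreeing on the `p`-regular elements lie in the same block. -/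
theorem mem_of_eq_on_regular {G : Type*} [Group G] [Finite G] {p : ℕ} [Fact p.Prime]
    {M : Ideal Cfsg.AlgInt} [M.IsMaximal] (hM : Cfsg.IsPModular p M)
    {B : Set (Cfsg.IrrCharacter G)} (hB : Cfsg.IsPBlock M B) {χ ψ : Cfsg.IrrCharacter G}
    (hχ : χ ∈ B) (h : ∀ x : G, ¬ p ∣ orderOf x → (ψ : G → ℂ) x = (χ : G → ℂ) x) : ψ ∈ B := by
  classical
  have : Fintype G := Fintype.ofFinite G
  have hs : ∀ η : Cfsg.IrrCharacter G, (∀ x, ¬ p ∣ orderOf x → (η : G → ℂ) x = (χ : G → ℂ) x) →
      ∑ z : G, Cfsg.blockCoeff B z * (η : G → ℂ) z =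
        ∑ z : G, Cfsg.blockCoeff B z * (χ : G → ℂ) z := by
    intro η hη
    refine Finset.sum_congr rfl fun z _ => ?_
    by_cases hz : p ∣ orderOf z
    · rw [H40.blockCoeff_eq_zero_of_singular hM hB hz, zero_mul, zero_mul]
    · rw [hη z hz]
  have h1 := H40.sum_blockCoeff_mul_irr B χ 1
  have h2 := H40.sum_blockCoeff_mul_irr B ψ 1
  simp only [mul_one] at h1 h2
  rw [hs ψ h, h1, if_pos hχ] at h2
  by_contra hψ
  rw [if_neg hψ] at h2
  exact H26.irr_one_ne_zero χ h2

end Cfsg.Agent.H42
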