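import Cfsg.Agent.H45.Gallagher
import Cfsg.Agent.H45.RelInduced
import Cfsg.Agent.H45.Galois
import Cfsg.Agent.H39.Intertwiner
import Cfsg.Agent.H26.CharFS
import Cfsg.Agent.H43.InvariantAbove

/-!
# Characters fixed by an automorphism inverting odd roots, over a normal subgroup of odd index

`g ↦ g ^ k` inverts the elements of odd order.  A fixed character of a normal subgroup of odd
index lies under exactly one fixed character, and extends to it when it is invariant.
-/

set_option autoImplicit false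
set_option maxHeartbeats 400000
set_option linter.unusedSectionVars false

open scoped ComplexConjugate

namespace Cfsg.Agent.H42

universe u

open Cfsg.Agent.H43 (irrConj irrCongr mult restrMult)

/-- `g ↦ g ^ k` inverts the elements of odd order. -/
def InvertsOdd (k : ℕ) (G : Type*) [Group G] : Prop :=
  ∀ g : G, Odd (orderOf g) → g ^ k = g⁻¹

theorem InvertsOdd.subgroup {k : ℕ} {G : Type*} [Group G] (h : InvertsOdd k G) (H : Subgroup G) :
    InvertsOdd k H := fun g hg => Subtype.ext (by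
  push_cast
  exact h g (by rwa [Subgroup.orderOf_coe]))

section OddQuotient

variable {G : Type u} [Group G] [Fintype G] (N : Subgroup G) [N.Normal] {k : ℕ}

/-- On a quotient of odd order `x ↦ x ^ k` is inversion. -/
theorem quot_pow_eq_inv (hodd : Odd N.index) (hk₂ : InvertsOdd k G) (x : G ⧸ N) :
    x ^ k = x⁻¹ := by
  obtain ⟨g, rfl⟩ := QuotientGroup.mk_surjective x
  set a := (Nat.card G).factorization 2
  have hg : Odd (orderOf (g ^ 2 ^ a)) := by
    have h1 : orderOf (g ^ 2 ^ a) ∣ Nat.card G / 2 ^ a := by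
      refine orderOf_dvd_of_pow_eq_one ?_
      rw [← pow_mul, Nat.ordProj_mul_ordCompl_eq_self, pow_card_eq_one']
    exact Odd.of_dvd_nat (Nat.odd_iff.2 (Nat.two_dvd_ne_zero.1
      (Nat.not_dvd_ordCompl Nat.prime_two Nat.card_pos.ne'))) h1
  have h2 := congrArg (QuotientGroup.mk' N) (hk₂ _ hg)
  simp only [map_pow, map_inv, QuotientGroup.mk'_apply] at h2
  have hcop : (2 ^ a).Coprime (Nat.card (G ⧸ N)) := by
    rw [← Subgroup.index_eq_card]
    exact (Nat.coprime_two_left.2 hodd).pow_left a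
  refine (H45.powCoprime_bijective hcop).1 ?_
  show ((g : G ⧸ N) ^ k) ^ 2 ^ a = ((g : G ⧸ N)⁻¹) ^ 2 ^ a
  rw [← pow_mul, mul_comm k, pow_mul, h2, inv_pow]

variable [Fintype N] {θ : Cfsg.IrrCharacter N}

theorem irr_of_ext {E : Cfsg.IrrCharacter G} (hE : ∀ n : N, E.1 (n : G) = θ.1 n) :
    Cfsg.IsIrrCharacter N fun n : N => E.1 n := by
  rw [show (fun n : N => E.1 n) = θ.1 from funext hE]
  exact θ.2

/-- An extension may be replaced by a fixed one. -/
theorem exists_fixed_extension (hodd : Odd N.index) (hk : k.Coprime (Nat.card G))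
    (hk₂ : InvertsOdd k G) (hθ : ∀ n : N, θ.1 (n ^ k) = θ.1 n)
    (E : Cfsg.IrrCharacter G) (hE : ∀ n : N, E.1 (n : G) = θ.1 n) :
    ∃ E' : Cfsg.IrrCharacter G, (∀ n : N, E'.1 (n : G) = θ.1 n) ∧
      ∀ g : G, E'.1 (g ^ k) = E'.1 g := by
  classical
  have : Fintype (G ⧸ N) := Fintype.ofFinite _
  have hirr := irr_of_ext N hE
  have hres : (fun n : N => (H45.galIrr hk E).1 n) = θ.1 := funext fun n => by
    show E.1 ((n : G) ^ k) = _
    rw [← Subgroup.coe_pow, hE, hθ]
  obtain ⟨η, hη⟩ := H45.exists_extMul N E hirr (H45.galIrr hk E) (by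
    rw [hres, show (fun n : N => E.1 n) = θ.1 from funext hE, H26.classInner_irr, if_pos rfl]
    exact one_ne_zero)
  have hval : ∀ g : G, E.1 (g ^ k) = E.1 g * η.1 (g : G ⧸ N) := fun g => (congrFun hη g).symm
  have h1 : η.1 1 = 1 := by
    have h := hval 1
    rw [one_pow, QuotientGroup.mk_one] at h
    exact (mul_eq_left₀ (H26.irr_one_ne_zero E)).1 h.symm
  obtain ⟨f, hf⟩ := H26.exists_hom_of_isCharacter_one (H26.irr_isCharacter η) h1
  obtain ⟨j, hj⟩ := hodd
  let μ : (G ⧸ N) →* ℂˣ := f ^ (j + 1)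
  have hμ2 : ∀ x : G ⧸ N, μ x * μ x = f x := fun x => by
    show f x ^ (j + 1) * f x ^ (j + 1) = f x
    rw [← pow_add, show j + 1 + (j + 1) = (2 * j + 1) + 1 by omega, pow_succ, ← hj, ← map_pow,
      Subgroup.index_eq_card, pow_card_eq_one', map_one, one_mul]
  refine ⟨⟨_, H45.isIrrCharacter_extMul N E hirr ⟨_, H26.isIrrCharacter_hom μ⟩⟩,
    fun n => ?_, fun g => ?_⟩
  · show E.1 n * (μ ((n : G) : G ⧸ N) : ℂ) = _
    rw [(QuotientGroup.eq_one_iff _).2 n.2, map_one, Units.val_one, mul_one, hE]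
  · show E.1 (g ^ k) * (μ ((g ^ k : G) : G ⧸ N) : ℂ) = E.1 g * (μ (g : G ⧸ N) : ℂ)
    rw [hval, QuotientGroup.mk_pow, quot_pow_eq_inv N ⟨j, hj⟩ hk₂, ← hf, mul_assoc,
      ← Units.val_mul, map_inv, ← hμ2 (g : G ⧸ N), mul_inv_cancel_right]

/-- A fixed extension is the only fixed character over `θ`. -/
theorem eq_of_fixed_over (hodd : Odd N.index) (hk : k.Coprime (Nat.card G))
    (hk₂ : InvertsOdd k G) {E ψ : Cfsg.IrrCharacter G} (hE : ∀ n : N, E.1 (n : G) = θ.1 n)
    (hEk : ∀ g : G, E.1 (g ^ k) = E.1 g) (hψk : ∀ g : G, ψ.1 (g ^ k) = ψ.1 g)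
    (hψ : Cfsg.classInner (fun n : N => ψ.1 n) θ.1 ≠ 0) : ψ = E := by
  classical
  have : Fintype (G ⧸ N) := Fintype.ofFinite _
  have hirr := irr_of_ext N hE
  obtain ⟨η, hη⟩ := H45.exists_extMul N E hirr ψ (by
    rwa [show (fun n : N => E.1 n) = θ.1 from funext hE])
  have hq : k.Coprime (Nat.card (G ⧸ N)) := by
    rw [← Subgroup.index_eq_card]
    exact hk.coprime_dvd_right N.index_dvd_card
  have hfix : H45.galIrr hq η = η := H45.extMul_injective N E hirr _ _ (by
    rw [hη]
    funext g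
    show E.1 g * η.1 ((g : G ⧸ N) ^ k) = ψ.1 g
    rw [← QuotientGroup.mk_pow, ← hψk g, ← hη, ← hEk g]
    rfl)
  have hreal : ∀ x : G ⧸ N, (η.1 x).im = 0 := fun x => by
    have h := congrFun (congrArg Subtype.val hfix) x
    change η.1 (x ^ k) = η.1 x at h
    rw [quot_pow_eq_inv N hodd hk₂, H26.irr_inv] at h
    exact Complex.conj_eq_iff_im.1 h
  have h1 := H26.real_irr_eq_one_of_odd (by rwa [← Subgroup.index_eq_card]) η hreal
  refine Subtype.ext (funext fun g => ?_)
  rw [← hη, h1]
  show E.1 g * (H26.oneIrr (G ⧸ N)).1 _ = E.1 g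
  rw [H26.oneIrr_val, mul_one]

/-- Extension to a quotient of prime power order. -/
theorem exists_ext_of_prime_power {q : ℕ} [hq : Fact q.Prime] (hk : k.Coprime (Nat.card G))
    (hk₂ : InvertsOdd k G) :
    ∀ (a : ℕ) (N : Subgroup G) [N.Normal] [Fintype N] (θ : Cfsg.IrrCharacter N),
      N.index = q ^ a → Odd N.index → (∀ n : N, θ.1 (n ^ k) = θ.1 n) →
      (∀ (g : G) (n : N), θ.1 (MulAut.conjNormal g n) = θ.1 n) →
      ∃ E : Cfsg.IrrCharacter G, ∀ n : N, E.1 (n : G) = θ.1 n := by
  classical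
  intro a
  induction a with
  | zero =>
    intro N _ _ θ hidx _ _ _
    rw [pow_zero, Subgroup.index_eq_one] at hidx
    subst hidx
    exact ⟨irrCongr Subgroup.topEquiv.symm θ, fun n => congrArg θ.1 (Subtype.ext rfl)⟩
  | succ a ih =>
    intro N _ _ θ hidx hodd hθ hinv
    have hQ : IsPGroup q (G ⧸ N) := IsPGroup.of_card (n := a + 1) (by
      rw [← Subgroup.index_eq_card, hidx])
    have : Nontrivial (G ⧸ N) := Finite.one_lt_card_iff_nontrivial.1 (by
      rw [← Subgroup.index_eq_card, hidx]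
      exact Nat.one_lt_pow (Nat.succ_ne_zero a) hq.out.one_lt)
    have hc : q ∣ Nat.card (Subgroup.center (G ⧸ N)) := by
      obtain ⟨n, hn⟩ := IsPGroup.iff_card.1 (hQ.to_subgroup (Subgroup.center (G ⧸ N)))
      have := hQ.center_nontrivial
      have h1 := Finite.one_lt_card (α := Subgroup.center (G ⧸ N))
      rw [hn] at h1 ⊢
      exact dvd_pow_self q fun h0 => by simp [h0] at h1
    obtain ⟨z, hz⟩ := exists_prime_orderOf_dvd_card' q hc
    set Z := Subgroup.zpowers (z : G ⧸ N) with hZ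
    have hZn : Z.Normal := ⟨fun x hx g => by
      obtain ⟨i, rfl⟩ := Subgroup.mem_zpowers_iff.1 hx
      rw [Subgroup.mem_center_iff.1 (Subgroup.zpow_mem _ z.2 i) g, mul_inv_cancel_right]
      exact Subgroup.zpow_mem _ (Subgroup.mem_zpowers _) i⟩
    have hZc : Nat.card Z = q := by rw [hZ, Nat.card_zpowers, Subgroup.orderOf_coe, hz]
    set N₁ := Z.comap (QuotientGroup.mk' N) with hN₁
    have : Fintype N₁ := Fintype.ofFinite _
    have hNN₁ : N ≤ N₁ := fun x hx => by
      show (x : G ⧸ N) ∈ Z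
      rw [(QuotientGroup.eq_one_iff x).2 hx]
      exact Z.one_mem
    have hidx₁ : N₁.index = q ^ a := by
      rw [hN₁, Subgroup.index_comap_of_surjective _ (QuotientGroup.mk'_surjective N)]
      have h := Z.card_mul_index
      rw [hZc, ← Subgroup.index_eq_card, hidx, pow_succ, mul_comm (q ^ a)] at h
      exact Nat.eq_of_mul_eq_mul_left hq.out.pos h
    set N' := N.subgroupOf N₁ with hN'
    have hrel : N'.index = q := by
      have h := Subgroup.relIndex_mul_index hNN₁
      rw [hidx₁, hidx, pow_succ, mul_comm (q ^ a)] at h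
      exact Nat.eq_of_mul_eq_mul_right (pow_pos hq.out.pos a) h
    have : Fintype N' := Fintype.ofFinite _
    let ε : N' ≃* N := Subgroup.subgroupOfEquivOfLe hNN₁
    obtain ⟨d, σ, hσ, hchar⟩ := (irrCongr ε θ).2
    have hv : ∀ r : N', σ.character r = θ.1 (ε r) := fun r => by rw [hchar]; rfl
    have hcyc : IsCyclic (N₁ ⧸ N') := isCyclic_of_prime_card (p := q) (by
      rw [← Subgroup.index_eq_card, hrel])
    obtain ⟨φ, hφ, hext⟩ := H39.exists_ext_of_cyclic_quotient σ hcyc fun g r => by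
      rw [hv, hv, ← hinv (g : G) (ε r)]
      exact congrArg θ.1 (Subtype.ext rfl)
    set θ' := irrCongr ε θ with hθ'
    have hoddN' : Odd N'.index := by
      rw [hrel]
      exact Odd.of_dvd_nat hodd (hidx ▸ dvd_pow_self q (Nat.succ_ne_zero a))
    have hk' : k.Coprime (Nat.card N₁) := hk.coprime_dvd_right N₁.card_subgroup_dvd_card
    obtain ⟨E₁, hE₁, hE₁k⟩ := exists_fixed_extension N' (θ := θ') hoddN' hk' (hk₂.subgroup N₁)
      (fun n => by
        show θ.1 (ε (n ^ k)) = θ.1 (ε n)
        rw [map_pow, hθ]) ⟨φ, hφ⟩ (fun n => by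
        show φ n = θ.1 (ε n)
        rw [hext, hv])
    have hinv₁ : ∀ g : G, irrConj N₁ g E₁ = E₁ := by
      intro g
      refine eq_of_fixed_over N' hoddN' hk' (hk₂.subgroup N₁) hE₁ hE₁k (fun x => ?_) ?_
      · show E₁.1 (MulAut.conjNormal g (x ^ k)) = E₁.1 (MulAut.conjNormal g x)
        rw [map_pow, hE₁k]
      · rw [show (fun n : N' => (irrConj N₁ g E₁).1 n) = θ'.1 from funext fun n => ?_,
          H26.classInner_irr, if_pos rfl]
        · exact one_ne_zero
        · have hn : MulAut.conjNormal g (n : N₁) =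
              ((ε.symm (MulAut.conjNormal g (ε n)) : N') : N₁) := Subtype.ext rfl
          show E₁.1 (MulAut.conjNormal g (n : N₁)) = θ.1 (ε n)
          rw [hn, hE₁]
          show θ.1 (ε (ε.symm _)) = _
          rw [MulEquiv.apply_symm_apply, hinv]
    obtain ⟨E, hE⟩ := ih N₁ E₁ hidx₁
      (Odd.of_dvd_nat hodd (Subgroup.index_dvd_of_le hNN₁)) hE₁k
      fun g n => congrFun (congrArg Subtype.val (hinv₁ g)) n
    refine ⟨E, fun n => ?_⟩
    have h := hE ⟨n, hNN₁ n.2⟩
    rw [h]
    exact hE₁ (ε.symm n)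

/-- An invariant fixed character of a normal subgroup of odd index extends. -/
theorem exists_ext_of_invariant (hodd : Odd N.index) (hk : k.Coprime (Nat.card G))
    (hk₂ : InvertsOdd k G) (hθ : ∀ n : N, θ.1 (n ^ k) = θ.1 n)
    (hinv : ∀ (g : G) (n : N), θ.1 (MulAut.conjNormal g n) = θ.1 n) :
    ∃ E : Cfsg.IrrCharacter G, ∀ n : N, E.1 (n : G) = θ.1 n := by
  classical
  obtain ⟨d, σ, hσ, hchar⟩ := θ.2
  haveI := hσ
  have hv : ∀ r : N, σ.character r = θ.1 r := fun r => by rw [hchar]
  obtain ⟨E, hE, hres⟩ := H39.exists_ext_of_local σ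
    (fun g n => by rw [hv, hv, ← hinv g n]; exact congrArg θ.1 (Subtype.ext rfl)) fun q hq => by
      haveI : Fact q.Prime := ⟨hq⟩
      obtain ⟨Q⟩ : Nonempty (Sylow q G) := inferInstance
      set P := N ⊔ (Q : Subgroup G)
      have hNP : N ≤ P := le_sup_left
      have : Fintype P := Fintype.ofFinite _
      set N' := N.subgroupOf P with hN'
      have : Fintype N' := Fintype.ofFinite _
      obtain ⟨a, ha⟩ : ∃ a, N'.index = q ^ a := by
        obtain ⟨j, hj⟩ := IsPGroup.iff_card.1 Q.2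
        have h1 : N.relIndex P ∣ q ^ j := by
          rw [Subgroup.relIndex_sup_left, ← hj]
          exact Subgroup.relIndex_dvd_card N (Q : Subgroup G)
        obtain ⟨i, -, hi⟩ := (Nat.dvd_prime_pow hq).1 h1
        exact ⟨i, hi⟩
      let ε : N' ≃* N := Subgroup.subgroupOfEquivOfLe hNP
      obtain ⟨E, hE⟩ := exists_ext_of_prime_power (hk.coprime_dvd_right P.card_subgroup_dvd_card)
        (hk₂.subgroup P) a N' (irrCongr ε θ) ha
        (Odd.of_dvd_nat hodd (Dvd.intro _ (Subgroup.relIndex_mul_index hNP)))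
        (fun n => by
          show θ.1 (ε (n ^ k)) = θ.1 (ε n)
          rw [map_pow, hθ])
        (fun g n => by
          show θ.1 (ε (MulAut.conjNormal g n)) = θ.1 (ε n)
          rw [← hinv (g : G) (ε n)]
          exact congrArg θ.1 (Subtype.ext rfl))
      obtain ⟨d', ρ, hρ, hρc⟩ := E.2
      have hdd : d' = d := by
        have h := hE (1 : N')
        rw [show irrCongr ε θ = irrCongr ε θ from rfl, Subgroup.coe_one, H43.irrCongr_apply,
          map_one, ← hρc, ← hv, Representation.char_one, Representation.char_one,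
          Module.finrank_fin_fun, Module.finrank_fin_fun] at h
        exact_mod_cast h
      subst hdd
      haveI := hρ
      -- the restriction of `ρ` is equivalent to `σ`
      let ρN : Representation ℂ N (Fin d' → ℂ) := ρ.comp (Subgroup.inclusion hNP)
      have hρN : ρN.character = σ.character := funext fun n => by
        rw [hv]
        show ρ.character (Subgroup.inclusion hNP n) = _
        rw [hρc, show (Subgroup.inclusion hNP n : P) = ((ε.symm n : N') : P) from Subtype.ext rfl,
          hE]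
        show θ.1 (ε (ε.symm n)) = _
        rw [MulEquiv.apply_symm_apply]
      have hfin : Module.finrank ℂ (Representation.IntertwiningMap σ ρN) = 1 := by
        have h := H26.classInner_char_eq_finrank σ ρN
        rw [hρN, H26.classInner_char_eq_finrank σ σ,
          Representation.IsIrreducible.finrank_intertwiningMap_self] at h
        exact_mod_cast h.symm
      obtain ⟨F, hF⟩ : ∃ F : Representation.IntertwiningMap σ ρN, F ≠ 0 := by
        haveI : Nontrivial (Representation.IntertwiningMap σ ρN) :=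
          Module.nontrivial_of_finrank_eq_succ hfin
        exact exists_ne 0
      have hker : LinearMap.ker F.toLinearMap = ⊥ := by
        refine (((H26.isIrreducible_iff_forall σ).1 hσ).2 _ fun n v hv => ?_).resolve_right
          fun htop => hF ?_
        · rw [LinearMap.mem_ker] at hv ⊢
          have := LinearMap.congr_fun (F.isIntertwining' n) v
          simp only [LinearMap.comp_apply] at this
          rw [this, hv, map_zero]
        · exact Representation.IntertwiningMap.ext (LinearMap.ker_eq_top.1 htop)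
      have hinj : Function.Injective F.toLinearMap := LinearMap.ker_eq_bot.1 hker
      obtain ⟨B, hB⟩ : IsUnit (F.toLinearMap : Module.End ℂ (Fin d' → ℂ)) :=
        (Module.End.isUnit_iff _).2 ⟨hinj, LinearMap.surjective_of_injective hinj⟩
      refine ⟨P, hNP, (MulAut.conj B⁻¹).toMonoidHom.comp (MonoidHom.toHomUnits ρ),
        fun h => Q.not_dvd_index (h.trans (Subgroup.index_dvd_of_le le_sup_right)), fun n => ?_⟩
      show B⁻¹ * MonoidHom.toHomUnits ρ ⟨n, hNP n.2⟩ * (B⁻¹)⁻¹ = _
      rw [inv_inv, mul_assoc, inv_mul_eq_iff_eq_mul]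
      refine Units.ext ?_
      show ρ (Subgroup.inclusion hNP n) * (B : Module.End ℂ (Fin d' → ℂ)) =
        (B : Module.End ℂ (Fin d' → ℂ)) * σ n
      rw [hB]
      exact (F.isIntertwining' n).symm
  exact ⟨⟨E, hE⟩, fun n => (hres n).trans (hv n)⟩

end OddQuotient

/-- Multiplicities are unchanged by `h ↦ h ^ k`. -/
theorem mult_pow {H : Type*} [Group H] [Fintype H] {k : ℕ} (hk : k.Coprime (Nat.card H))
    (φ : H → ℂ) (η : Cfsg.IrrCharacter H) :
    mult (fun h => φ (h ^ k)) (H45.galIrr hk η) = mult φ η := by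
  unfold H43.mult
  congr 2
  rw [Cfsg.classInner, Cfsg.classInner]
  congr 1
  exact Fintype.sum_bijective _ (H45.powCoprime_bijective hk) _ _ fun h => rfl

section Main

open Cfsg.Agent.H45 (inertiaSub le_inertiaSub OverInertia galIrr)

variable {G : Type u} [Group G] [Fintype G] (N : Subgroup G) [N.Normal] [Fintype N] {k : ℕ}

/-- A fixed character of a normal subgroup of odd index lies under exactly one fixed character. -/
theorem existsUnique_fixed_over (hodd : Odd N.index) (hk : k.Coprime (Nat.card G))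
    (hk₂ : InvertsOdd k G) (θ : Cfsg.IrrCharacter N) (hθ : ∀ n : N, θ.1 (n ^ k) = θ.1 n) :
    ∃ χ : Cfsg.IrrCharacter G, (restrMult N χ θ ≠ 0 ∧ (∀ g : G, χ.1 (g ^ k) = χ.1 g) ∧
      ((∀ (g : G) (n : N), θ.1 (MulAut.conjNormal g n) = θ.1 n) → ∀ n : N, χ.1 n = θ.1 n)) ∧
      ∀ χ' : Cfsg.IrrCharacter G, restrMult N χ' θ ≠ 0 →
        (∀ g : G, χ'.1 (g ^ k) = χ'.1 g) → χ' = χ := by
  classical
  set T := inertiaSub θ with hT
  have hNT : N ≤ T := le_inertiaSub θ
  have : Fintype T := Fintype.ofFinite _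
  set N' := N.subgroupOf T with hN'
  have : Fintype N' := Fintype.ofFinite _
  let ε : N' ≃* N := Subgroup.subgroupOfEquivOfLe hNT
  set θ' := irrCongr ε θ with hθ'
  have hkT : k.Coprime (Nat.card T) := hk.coprime_dvd_right T.card_subgroup_dvd_card
  have hoddT : Odd N'.index := Odd.of_dvd_nat hodd (Dvd.intro _ (Subgroup.relIndex_mul_index hNT))
  have hθ'k : ∀ n : N', θ'.1 (n ^ k) = θ'.1 n := fun n => by
    show θ.1 (ε (n ^ k)) = θ.1 (ε n)
    rw [map_pow, hθ]
  obtain ⟨E₀, hE₀⟩ := exists_ext_of_invariant N' (θ := θ') hoddT hkT (hk₂.subgroup T) hθ'k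
    fun g n => by
      have h := congrFun (congrArg Subtype.val (H45.mem_inertiaSub.1 g.2)) (ε n)
      rw [H43.irrConj_apply] at h
      refine Eq.trans ?_ h
      show θ.1 (ε (MulAut.conjNormal g n)) = _
      exact congrArg θ.1 (Subtype.ext rfl)
  obtain ⟨E, hE, hEk⟩ := exists_fixed_extension N' hoddT hkT (hk₂.subgroup T) hθ'k E₀ hE₀
  have hEN : ∀ n : N, E.1 (Subgroup.inclusion hNT n) = θ.1 n := fun n => by
    rw [show (Subgroup.inclusion hNT n : T) = ((ε.symm n : N') : T) from Subtype.ext rfl, hE]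
    show θ.1 (ε (ε.symm n)) = _
    rw [MulEquiv.apply_symm_apply]
  have hEover : OverInertia θ E := by
    refine H43.mult_ne_zero_of_eq hEN ?_
    rw [H43.mult_self_eq_one]
    exact one_ne_zero
  set χ : Cfsg.IrrCharacter G := ⟨_, (H45.indFun_over hEover).1⟩ with hχ
  have hm : mult (fun t : T => χ.1 (t : G)) E ≠ 0 := by
    rw [H45.mult_eq_one_of_indFun χ rfl]
    exact one_ne_zero
  refine ⟨χ, ⟨H45.restrMult_ne_zero_of_constituent χ hEover hm, fun g => ?_, fun hinv n => ?_⟩,
    fun χ' hχ' hfix => ?_⟩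
  · show Cfsg.indFun T E.1 (g ^ k) = Cfsg.indFun T E.1 g
    rw [Cfsg.indFun, Cfsg.indFun]
    refine congrArg _ (Finset.sum_congr rfl fun x _ => ?_)
    have hc : x⁻¹ * g ^ k * x = (x⁻¹ * g * x) ^ k := by
      have := conj_pow (i := k) (a := x⁻¹) (b := g)
      rw [inv_inv] at this
      exact this.symm
    rw [hc]
    by_cases hg : x⁻¹ * g * x ∈ T
    · rw [H25.extendByZero_of_mem _ _ (T.pow_mem hg k), H25.extendByZero_of_mem _ _ hg]
      exact hEk ⟨_, hg⟩
    · rw [H25.extendByZero_of_notMem _ _ hg, H25.extendByZero_of_notMem]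
      intro hmem
      obtain ⟨j, hj⟩ := exists_pow_eq_self_of_coprime (x := x⁻¹ * g * x) (n := k)
        (hk.coprime_dvd_right (orderOf_dvd_natCard _))
      exact hg (hj ▸ T.pow_mem hmem j)
  · have htop : T = ⊤ := top_unique fun g _ =>
      H45.mem_inertiaSub.2 (Subtype.ext (funext fun m => by rw [H43.irrConj_apply, hinv]))
    show Cfsg.indFun T E.1 (n : G) = θ.1 n
    rw [Cfsg.indFun, Finset.sum_congr rfl (g := fun _ => θ.1 n) fun x _ => ?_, Finset.sum_const,
      nsmul_eq_mul, Finset.card_univ, ← Nat.card_eq_fintype_card, htop, Subgroup.card_top,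
      inv_mul_cancel_left₀ (Nat.cast_ne_zero.2 Nat.card_pos.ne')]
    have hmem : x⁻¹ * (n : G) * x ∈ N := by
      simpa using ‹N.Normal›.conj_mem _ n.2 x⁻¹
    rw [H25.extendByZero_of_mem _ _ (hNT hmem),
      show (⟨x⁻¹ * (n : G) * x, hNT hmem⟩ : T) = Subgroup.inclusion hNT ⟨_, hmem⟩ from rfl, hEN,
      ← hinv x⁻¹ n]
    exact congrArg θ.1 (Subtype.ext (by simp))
  · obtain ⟨ζ, hζ, hζm⟩ := H45.exists_constituent χ' hχ'
    have hm' : mult (fun t : T => χ'.1 (t : G)) (galIrr hkT ζ) ≠ 0 := by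
      rw [show (fun t : T => χ'.1 (t : G)) = fun t : T => (fun t : T => χ'.1 (t : G)) (t ^ k) from
        funext fun t => (hfix (t : G)).symm]
      exact (mult_pow hkT (fun t : T => χ'.1 (t : G)) ζ).trans_ne hζm
    have hkN : k.Coprime (Nat.card N) := hk.coprime_dvd_right N.card_subgroup_dvd_card
    have hover : OverInertia θ (galIrr hkT ζ) := by
      have hθg : θ = galIrr hkN θ := Subtype.ext (funext fun n => (hθ n).symm)
      show mult (fun n : N => (galIrr hkT ζ).1 (Subgroup.inclusion (le_inertiaSub θ) n)) θ ≠ 0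
      rw [show (fun n : N => (galIrr hkT ζ).1 (Subgroup.inclusion (le_inertiaSub θ) n)) =
          fun n : N => (fun n : N => ζ.1 (Subgroup.inclusion hNT n)) (n ^ k) from
            funext fun n => by show ζ.1 (_ ^ k) = _; rw [← map_pow]]
      intro h0
      apply hζ
      refine (mult_pow hkN (fun n : N => ζ.1 (Subgroup.inclusion hNT n)) θ).symm.trans ?_
      rw [← hθg]
      exact h0
    have heq := H45.constituent_unique χ' hover hζ hm' hζm
    have hζk : ∀ t : T, ζ.1 (t ^ k) = ζ.1 t := fun t => congrFun (congrArg Subtype.val heq) t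
    have hζ' : Cfsg.classInner (fun n : N' => ζ.1 n) θ'.1 ≠ 0 := by
      have e : Cfsg.classInner (fun n : N' => ζ.1 n) θ'.1 =
          Cfsg.classInner (fun n : N => ζ.1 (Subgroup.inclusion hNT n)) θ.1 :=
        H43.classInner_congr ε (fun n : N => ζ.1 (Subgroup.inclusion hNT n)) θ.1
      rw [e, H43.classInner_eq_mult (H45.isCharacter_incl ζ) θ, Nat.cast_ne_zero]
      exact hζ
    obtain rfl := eq_of_fixed_over N' hoddT hkT (hk₂.subgroup T) hE hEk hζk hζ'
    exact Subtype.ext (H45.indFun_eq_of_constituent χ' hζ hζm).symm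

end Main

end Cfsg.Agent.H42
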