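import Cfsg.Agent.H45.Gallagher
import Cfsg.Agent.H40.BlockDefect
import Cfsg.Agent.H41.Blocks
import Cfsg.Agent.H43.Constituents
import Cfsg.Agent.H26.CharEquiv

/-!
# Extensions in principal blocks (Alperin, Dade)

If `E` extends a principal character `θ` of `N` and `G = N C_G(P)`, then on sums over `N`-orbits
the reduction of `E / θ(1)` is a linear character of `G / N`.  Dividing it out gives an extension
in the principal block, and in that of every subgroup between `N` and `G`.
-/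

set_option autoImplicit false
set_option maxHeartbeats 400000
set_option linter.unusedSectionVars false

open scoped ComplexConjugate

namespace Cfsg.Agent.H42.PrinExt

variable {G : Type*} [Group G] [Fintype G] (N : Subgroup G) [N.Normal] [Fintype N]

/-- Invariant under conjugation by `N`. -/
def NInv (f : G → ℕ) : Prop := ∀ n ∈ N, ∀ g : G, f (n * g * n⁻¹) = f g

/-- The convolution. -/
noncomputable def conv (f h : G → ℕ) (t : G) : ℕ := ∑ a : G, f a * h (a⁻¹ * t)

theorem sum_conv_mul {R : Type*} [CommSemiring R] (f h : G → ℕ) (F : G → R) :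
    ∑ t : G, (conv f h t : R) * F t = ∑ a : G, ∑ b : G, (f a : R) * (h b : R) * F (a * b) := by
  simp only [conv, Nat.cast_sum, Nat.cast_mul, Finset.sum_mul]
  rw [Finset.sum_comm]
  refine Finset.sum_congr rfl fun a _ => ?_
  refine (Fintype.sum_equiv (Equiv.mulLeft a) _ _ fun b => ?_).symm
  simp

theorem sum_conv (f h : G → ℕ) : ∑ t : G, conv f h t = (∑ a, f a) * ∑ b, h b := by
  have := sum_conv_mul (R := ℕ) f h fun _ => 1
  rw [Finset.sum_mul_sum]
  simpa using this

theorem nInv_conv {f h : G → ℕ} (hf : NInv N f) (hh : NInv N h) : NInv N (conv f h) := by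
  intro n hn g
  unfold conv
  refine (Fintype.sum_equiv (MulAut.conj n).toEquiv _ _ fun a => ?_).symm
  simp only [MulEquiv.toEquiv_eq_coe, EquivLike.coe_coe, MulAut.conj_apply]
  rw [hf n hn, show (n * a * n⁻¹)⁻¹ * (n * g * n⁻¹) = n * (a⁻¹ * g) * n⁻¹ by group, hh n hn]

/-- Supported on one coset. -/
def OnCoset (q : G ⧸ N) (f : G → ℕ) : Prop := ∀ g : G, f g ≠ 0 → (g : G ⧸ N) = q

theorem onCoset_conv {q q' : G ⧸ N} {f h : G → ℕ} (hf : OnCoset N q f) (hh : OnCoset N q' h) :
    OnCoset N (q * q') (conv f h) := by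
  intro t ht
  obtain ⟨a, -, ha⟩ := Finset.exists_ne_zero_of_sum_ne_zero ht
  rw [← hf a (left_ne_zero_of_mul ha), ← hh _ (right_ne_zero_of_mul ha), ← QuotientGroup.mk_mul,
    mul_inv_cancel_left]

variable {θ : Cfsg.IrrCharacter N} {E : Cfsg.IrrCharacter G}

/-- The scalar of the action of a sum over `N`-orbits. -/
noncomputable def scalar (E : Cfsg.IrrCharacter G) (f : G → ℕ) : ℂ :=
  (∑ g, (f g : ℂ) * E.1 g) / E.1 1

theorem scalar_mul (hE : ∀ n : N, E.1 (n : G) = θ.1 n) {f : G → ℕ} (hf : NInv N f)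
    (h : G → ℕ) : scalar E f * scalar E h = scalar E (conv f h) ∧ IsIntegral ℤ (scalar E f) := by
  obtain ⟨d, ρ, hρ, hρc⟩ := E.2
  obtain ⟨d', σ, hσ, hσc⟩ := θ.2
  let ρN : Representation ℂ N (Fin d → ℂ) := ρ.comp N.subtype
  have hch : ρN.character = θ.1 := funext fun n => by
    show ρ.character (n : G) = _
    rw [hρc, hE]
  haveI : ρN.IsIrreducible := by
    haveI := hσ
    obtain ⟨e⟩ := H26.nonempty_equiv_of_char_eq σ ρN (by rw [hch, hσc])
    exact H26.isIrreducible_of_equiv e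
  haveI := H25.nontrivial_of_isIrreducible ρN
  set T : Module.End ℂ (Fin d → ℂ) := ∑ g, (f g : ℂ) • ρ g with hT
  have hcomm : ∀ n : N, T ∘ₗ ρN n = ρN n ∘ₗ T := by
    intro n
    show T ∘ₗ ρ (n : G) = ρ (n : G) ∘ₗ T
    simp only [hT, ← Module.End.mul_eq_comp, Finset.sum_mul, Finset.mul_sum, smul_mul_assoc,
      mul_smul_comm, ← map_mul]
    refine Fintype.sum_equiv (MulAut.conj ((n : G))⁻¹).toEquiv _ _ fun g => ?_
    simp only [MulEquiv.toEquiv_eq_coe, EquivLike.coe_coe, MulAut.conj_apply, inv_inv]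
    rw [show (n : G) * ((n : G)⁻¹ * g * n) = g * n by group]
    have h1 := hf _ (N.inv_mem n.2) g
    rw [inv_inv] at h1
    rw [h1]
  have htr : LinearMap.trace ℂ _ T = ∑ g, (f g : ℂ) * E.1 g := by
    simp [hT, ← hρc, Representation.character]
  have hd : (Module.finrank ℂ (Fin d → ℂ) : ℂ) = E.1 1 := by rw [← hρc, ρ.char_one]
  have hTs : T = scalar E f • (LinearMap.id : (Fin d → ℂ) →ₗ[ℂ] (Fin d → ℂ)) := by
    have := H25.eq_smul_id_of_comm ρN T hcomm
    rwa [htr, hd] at this
  refine ⟨?_, ?_⟩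
  · unfold scalar
    rw [div_mul_eq_mul_div, ← mul_div_assoc, div_div, sum_conv_mul]
    have h1 : ∀ b : G, LinearMap.trace ℂ _ (T * ρ b) = scalar E f * E.1 b := fun b => by
      rw [hTs, smul_mul_assoc, map_smul, smul_eq_mul, ← Module.End.one_eq_id, one_mul, ← hρc]
      rfl
    have h2 : ∀ b : G, LinearMap.trace ℂ _ (T * ρ b) = ∑ a, (f a : ℂ) * E.1 (a * b) := fun b => by
      simp [hT, Finset.sum_mul, ← map_mul, ← hρc, Representation.character]
    have h3 : ∑ a : G, ∑ b : G, (f a : ℂ) * (h b : ℂ) * E.1 (a * b) =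
        scalar E f * ∑ b : G, (h b : ℂ) * E.1 b := by
      rw [Finset.sum_comm, Finset.mul_sum]
      refine Finset.sum_congr rfl fun b _ => ?_
      rw [mul_left_comm, ← h1, h2, Finset.mul_sum]
      exact Finset.sum_congr rfl fun a _ => by ring
    rw [h3]
    unfold scalar
    field_simp [H26.irr_one_ne_zero E]
  · let z : MonoidAlgebra ℤ G := ∑ g, MonoidAlgebra.single g (f g : ℤ)
    let φ : MonoidAlgebra ℤ G →ₐ[ℤ] Module.End ℂ (Fin d → ℂ) :=
      MonoidAlgebra.lift ℤ (Module.End ℂ (Fin d → ℂ)) G ρ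
    have hz : IsIntegral ℤ (φ z) := (IsIntegral.of_finite ℤ z).map φ
    have hφz : φ z = T := by
      simp only [z, φ, map_sum, MonoidAlgebra.lift_single, hT]
      exact Finset.sum_congr rfl fun g _ => by
        simp [Nat.cast_smul_eq_nsmul, nsmul_eq_mul]
    rw [hφz, hTs] at hz
    refine (isIntegral_algebraMap_iff (A := ℂ) (B := Module.End ℂ (Fin d → ℂ))
      (FaithfulSMul.algebraMap_injective ℂ _)).mp ?_
    rwa [Algebra.algebraMap_eq_smul_one]

variable {p : ℕ} [hp : Fact p.Prime] {M : Ideal Cfsg.AlgInt} [M.IsMaximal]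

/-- On `N` the scalar is congruent to the augmentation. -/
theorem memLocalIdeal_scalar_sub (hθ : θ ∈ Cfsg.principalBlock M N)
    (hE : ∀ n : N, E.1 (n : G) = θ.1 n) {f : G → ℕ} (hf : NInv N f) (hN : OnCoset N 1 f) :
    Cfsg.MemLocalIdeal M (scalar E f - ((∑ g, f g : ℕ) : ℂ)) := by
  classical
  have : Fintype (ConjClasses N) := Fintype.ofFinite _
  have h1 : E.1 1 = θ.1 1 := by rw [← Subgroup.coe_one N, hE]
  have hsum : ∀ F : G → ℂ, ∑ g, (f g : ℂ) * F g = ∑ n : N, (f n : ℂ) * F (n : G) := by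
    intro F
    rw [← Finset.sum_subtype (Finset.univ.filter fun g : G => g ∈ N) (fun g => by simp)
      (fun g => (f g : ℂ) * F g), Finset.sum_filter_of_ne]
    intro g _ hg
    exact (QuotientGroup.eq_one_iff g).1 (hN g fun h0 => hg (by rw [h0, Nat.cast_zero, zero_mul]))
  have h2 : scalar E f - ((∑ g, f g : ℕ) : ℂ) =
      ∑ C : ConjClasses N, ∑ n ∈ Finset.univ.filter (fun n : N => ConjClasses.mk n = C),
        (f n : ℂ) * (θ.1 n / θ.1 1 - 1) := by
    rw [Finset.sum_fiberwise Finset.univ (fun n : N => ConjClasses.mk n)]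
    rw [scalar, hsum, h1, Nat.cast_sum, ← Finset.sum_congr rfl fun g _ => mul_one (f g : ℂ), hsum,
      Finset.sum_div, ← Finset.sum_sub_distrib]
    exact Finset.sum_congr rfl fun n _ => by rw [hE]; ring
  rw [h2]
  have hmem : ∀ C : ConjClasses N, Cfsg.MemLocalIdeal M
      (∑ n ∈ Finset.univ.filter (fun n : N => ConjClasses.mk n = C),
        (f n : ℂ) * (θ.1 n / θ.1 1 - 1)) := by
    intro C
    obtain ⟨n₀, rfl⟩ := ConjClasses.exists_rep C
    rw [Finset.sum_congr rfl (g := fun _ => (f n₀ : ℂ) * (θ.1 n₀ / θ.1 1 - 1)) fun n hn => ?_,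
      Finset.sum_const, nsmul_eq_mul]
    · have hcard : (Finset.univ.filter (fun n : N => ConjClasses.mk n = ConjClasses.mk n₀)).card =
          (Subgroup.centralizer ({n₀} : Set N)).index := by
        rw [H25.index_centralizer_eq_card_class, Nat.card_eq_fintype_card, Fintype.card_subtype]
        congr 1
        exact Finset.filter_congr fun n _ => by rw [ConjClasses.mk_eq_mk_iff_isConj, isConj_comm]
      have hb := hθ n₀
      rw [Cfsg.centralChar, div_one, mul_one] at hb
      have e : ((Finset.univ.filter (fun n : N => ConjClasses.mk n = ConjClasses.mk n₀)).card : ℂ) *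
          ((f n₀ : ℂ) * (θ.1 n₀ / θ.1 1 - 1)) = (-(f n₀ : ℂ)) *
            (((Subgroup.centralizer ({n₀} : Set N)).index : ℂ) -
              Cfsg.centralChar θ.1 n₀) := by
        rw [hcard, Cfsg.centralChar]
        ring
      rw [e]
      obtain ⟨hw, hb'⟩ := H41.memLocalIdeal_iff_res.1 hb
      rw [H41.memLocalIdeal_iff_res]
      refine ⟨mul_mem (neg_mem (natCast_mem _ _)) hw, ?_⟩
      rw [show (⟨_, mul_mem (neg_mem (natCast_mem (H41.localRing M) (f n₀))) hw⟩ :
          H41.localRing M) = (-(f n₀ : H41.localRing M)) * ⟨_, hw⟩ from Subtype.ext (by push_cast; rfl),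
        map_mul, hb', mul_zero]
    · obtain ⟨c, hc⟩ := isConj_iff.1 (ConjClasses.mk_eq_mk_iff_isConj.1 (Finset.mem_filter.1 hn).2)
      subst hc
      rw [H26.irr_conj, Subgroup.coe_mul, Subgroup.coe_mul, InvMemClass.coe_inv, hf c c.2]
  choose hm hres using fun C => H41.memLocalIdeal_iff_res.1 (hmem C)
  rw [H41.memLocalIdeal_iff_res]
  refine ⟨sum_mem fun C _ => hm C, ?_⟩
  rw [show (⟨_, sum_mem fun C _ => hm C⟩ : H41.localRing M) = ∑ C, ⟨_, hm C⟩ from
    Subtype.ext (by push_cast; rfl), map_sum]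
  exact Finset.sum_eq_zero fun C _ => hres C

open scoped Classical in
/-- The reduction, extended by zero. -/
noncomputable def red (M : Ideal Cfsg.AlgInt) [M.IsMaximal] (z : ℂ) : H41.ResField M :=
  if h : z ∈ H41.localRing M then H41.res M ⟨z, h⟩ else 0

theorem red_coe (z : H41.localRing M) : red M (z : ℂ) = H41.res M z := dif_pos z.2

theorem red_of_mem {z : ℂ} (h : z ∈ H41.localRing M) : red M z = H41.res M ⟨z, h⟩ := dif_pos h

theorem red_mul {a b : ℂ} (ha : a ∈ H41.localRing M) (hb : b ∈ H41.localRing M) :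
    red M (a * b) = red M a * red M b := by
  rw [red_of_mem (mul_mem ha hb), red_of_mem ha, red_of_mem hb, ← map_mul]
  rfl

theorem red_sum {ι : Type*} (s : Finset ι) {F : ι → ℂ} (hF : ∀ i ∈ s, F i ∈ H41.localRing M) :
    red M (∑ i ∈ s, F i) = ∑ i ∈ s, red M (F i) := by
  classical
  induction s using Finset.induction_on with
  | empty => rw [Finset.sum_empty, Finset.sum_empty, red_of_mem (zero_mem _)]; exact map_zero _
  | insert i s hi ih =>
    have h1 := hF i (Finset.mem_insert_self i s)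
    have h2 := fun j hj => hF j (Finset.mem_insert_of_mem hj)
    rw [Finset.sum_insert hi, Finset.sum_insert hi, ← ih h2,
      red_of_mem (add_mem h1 (sum_mem h2)), red_of_mem h1, red_of_mem (sum_mem h2), ← map_add]
    rfl

theorem red_natCast (n : ℕ) : red M (n : ℂ) = (n : H41.ResField M) := by
  rw [← map_natCast (H41.res M), ← red_coe, SubringClass.coe_natCast]

/-- The indicator of the orbit of `c` under conjugation by `N`. -/
noncomputable def orb (c : G) : G → ℕ :=
  haveI := Classical.propDecidable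
  fun g => if ∃ n : N, (n : G) * c * (n : G)⁻¹ = g then 1 else 0

theorem nInv_orb (c : G) : NInv N (orb N c) := by
  classical
  intro n hn g
  have hiff : (∃ m : N, (m : G) * c * (m : G)⁻¹ = n * g * n⁻¹) ↔
      ∃ m : N, (m : G) * c * (m : G)⁻¹ = g := by
    refine ⟨fun ⟨m, hm⟩ => ⟨⟨n, hn⟩⁻¹ * m, ?_⟩, fun ⟨m, hm⟩ => ⟨⟨n, hn⟩ * m, ?_⟩⟩
    all_goals push_cast
    · rw [show n⁻¹ * (m : G) * c * (n⁻¹ * (m : G))⁻¹ = n⁻¹ * ((m : G) * c * (m : G)⁻¹) * n by group,
        hm]
      group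
    · rw [← hm]
      group
  by_cases h : ∃ m : N, (m : G) * c * (m : G)⁻¹ = g
  · simp only [orb, if_pos h, if_pos (hiff.2 h)]
  · simp only [orb, if_neg h, if_neg fun h' => h (hiff.1 h')]

theorem onCoset_orb (c : G) : OnCoset N (c : G ⧸ N) (orb N c) := by
  classical
  intro g hg
  by_cases h : ∃ n : N, (n : G) * c * (n : G)⁻¹ = g
  · obtain ⟨n, rfl⟩ := h
    rw [QuotientGroup.mk_mul, QuotientGroup.mk_mul, QuotientGroup.mk_inv,
      (QuotientGroup.eq_one_iff (n : G)).2 n.2, one_mul, inv_one, mul_one]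
  · simp [orb, h] at hg

theorem not_dvd_sum_orb (P : Sylow p N) {c : G}
    (hc : ∀ y ∈ (P : Subgroup N), Commute (y : G) c) : ¬ p ∣ ∑ g, orb N c g := by
  classical
  let := MulAction.compHom G ((ConjAct.toConjAct (G := G)).toMonoidHom.comp N.subtype)
  have hsum : ∑ g, orb N c g = (MulAction.orbit N c).ncard := by
    have h0 : (Finset.univ.filter fun g : G => g ∈ MulAction.orbit N c).card =
        (MulAction.orbit N c).ncard := by
      rw [← Set.ncard_coe_finset]
      congr 1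
      ext g
      simp
    rw [← h0, Finset.card_filter]
    refine Finset.sum_congr rfl fun g _ => ?_
    by_cases h : ∃ n : N, (n : G) * c * (n : G)⁻¹ = g
    · rw [if_pos (show g ∈ MulAction.orbit N c from h), orb, if_pos h]
    · rw [if_neg (show ¬ g ∈ MulAction.orbit N c from h), orb, if_neg h]
  rw [hsum, ← MulAction.index_stabilizer]
  refine fun h => P.not_dvd_index (h.trans (Subgroup.index_dvd_of_le fun y hy => ?_))
  rw [MulAction.mem_stabilizer_iff]
  show (y : G) * c * (y : G)⁻¹ = c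
  rw [(hc y hy).eq, mul_inv_cancel_right]

variable (M) in
/-- The augmentation, reduced. -/
noncomputable def aug (f : G → ℕ) : H41.ResField M := ((∑ g, f g : ℕ) : H41.ResField M)

theorem exists_ratio (hM : Cfsg.IsPModular p M) (hθ : θ ∈ Cfsg.principalBlock M N)
    (hE : ∀ n : N, E.1 (n : G) = θ.1 n) (P : Sylow p N)
    (hcov : ∀ q : G ⧸ N, ∃ c : G, (c : G ⧸ N) = q ∧ ∀ y ∈ (P : Subgroup N), Commute (y : G) c) :
    ∃ r : G ⧸ N →* H41.ResField M, ∀ (q : G ⧸ N) (f : G → ℕ), NInv N f → OnCoset N q f →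
      red M (scalar E f) = r q * aug M f := by
  classical
  choose c hc hcP using hcov
  have hint : ∀ {f : G → ℕ}, NInv N f → scalar E f ∈ H41.localRing M := fun hf =>
    H41.isIntegral_mem_localRing (scalar_mul N hE hf fun _ => 0).2
  have hprod : ∀ {f h : G → ℕ}, NInv N f → NInv N h →
      red M (scalar E f) * red M (scalar E h) = red M (scalar E (conv f h)) := fun hf hh => by
    rw [← red_mul (hint hf) (hint hh), (scalar_mul N hE hf _).1]
  have haugmul : ∀ f h : G → ℕ, aug M (conv f h) = aug M f * aug M h := fun f h => by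
    rw [aug, sum_conv, Nat.cast_mul, aug, aug]
  have hone : ∀ {f : G → ℕ}, NInv N f → OnCoset N 1 f → red M (scalar E f) = aug M f := by
    intro f hf h1
    obtain ⟨hm, hres⟩ := H41.memLocalIdeal_iff_res.1 (memLocalIdeal_scalar_sub N hθ hE hf h1)
    have e : (⟨_, hm⟩ : H41.localRing M) = ⟨_, hint hf⟩ - ((∑ g, f g : ℕ) : H41.localRing M) :=
      Subtype.ext (by push_cast; rfl)
    rw [e, map_sub, map_natCast, sub_eq_zero] at hres
    rw [red_of_mem (hint hf)]
    exact hres
  have hA : ∀ q, aug M (orb N (c q)) ≠ 0 := fun q h =>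
    not_dvd_sum_orb N P (hcP q) ((H41.IsPModular.natCast_eq_zero_iff hM _).1 h)
  let r : G ⧸ N → H41.ResField M := fun q => red M (scalar E (orb N (c q))) / aug M (orb N (c q))
  have hrw : ∀ q, red M (scalar E (orb N (c q))) = r q * aug M (orb N (c q)) := fun q =>
    (div_mul_cancel₀ _ (hA q)).symm
  have hon : ∀ q, OnCoset N q (orb N (c q)) := fun q => by
    have := onCoset_orb N (c q)
    rwa [hc] at this
  have hinv : ∀ q (f : G → ℕ), NInv N f → OnCoset N q f →
      red M (scalar E f) * r q⁻¹ = aug M f := by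
    intro q f hf hq
    have h := hprod hf (nInv_orb N (c q⁻¹))
    rw [hone (nInv_conv N hf (nInv_orb N _))
      (mul_inv_cancel q ▸ onCoset_conv N hq (hon q⁻¹)), haugmul, hrw, ← mul_assoc] at h
    exact mul_right_cancel₀ (hA q⁻¹) h
  have hrr : ∀ q, r q * r q⁻¹ = 1 := fun q => by
    have h := hinv q _ (nInv_orb N (c q)) (hon q)
    rw [hrw, mul_right_comm] at h
    exact (mul_eq_right₀ (hA q)).1 h
  have hlin : ∀ q (f : G → ℕ), NInv N f → OnCoset N q f →
      red M (scalar E f) = r q * aug M f := by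
    intro q f hf hq
    rw [← hinv q f hf hq, mul_left_comm, hrr, mul_one]
  have hmul : ∀ q q', r (q * q') = r q * r q' := by
    intro q q'
    have h := hprod (nInv_orb N (c q)) (nInv_orb N (c q'))
    rw [hlin (q * q') _ (nInv_conv N (nInv_orb N _) (nInv_orb N _))
      (onCoset_conv N (hon q) (hon q')), haugmul, hrw, hrw, mul_mul_mul_comm] at h
    exact (mul_right_cancel₀ (mul_ne_zero (hA q) (hA q')) h).symm
  have h1 : r 1 = 1 := by
    have h := hrr 1
    rw [inv_one, ← hmul, mul_one] at h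
    exact h
  exact ⟨{ toFun := r, map_one' := h1, map_mul' := hmul }, hlin⟩

omit [N.Normal] [Fintype N] in
/-- Reductions of characters of finite groups lift. -/
theorem exists_lift {Q : Type*} [Group Q] [Finite Q] (hM : Cfsg.IsPModular p M)
    (r : Q →* H41.ResField M) :
    ∃ μ : Q →* ℂˣ, ∀ q : Q, (μ q : ℂ) ∈ H41.localRing M ∧ red M (μ q : ℂ) = r q := by
  classical
  haveI := H41.IsPModular.charP hM
  set a := (Nat.card Q).factorization p
  set m := Nat.card Q / p ^ a
  have hm : ¬ p ∣ m := Nat.not_dvd_ordCompl hp.out Nat.card_pos.ne'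
  have hm0 : m ≠ 0 := fun h => hm (h ▸ dvd_zero p)
  have hrm : ∀ q, r q ^ m = 1 := by
    intro q
    have h1 : (r q ^ m - 1) ^ p ^ a = 0 := by
      rw [sub_pow_char_pow, ← pow_mul, mul_comm, Nat.ordProj_mul_ordCompl_eq_self, ← map_pow,
        pow_card_eq_one', map_one, one_pow, sub_self]
    exact sub_eq_zero.1 ((pow_eq_zero_iff (pow_ne_zero _ hp.out.ne_zero)).1 h1)
  obtain ⟨ζ, hζ⟩ : ∃ ζ : ℂ, IsPrimitiveRoot ζ m := ⟨_, Complex.isPrimitiveRoot_exp m hm0⟩
  have hζm : ζ ∈ H41.localRing M := H41.isIntegral_mem_localRing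
    (IsIntegral.of_pow (Nat.pos_of_ne_zero hm0) (by rw [hζ.pow_eq_one]; exact isIntegral_one))
  set z : H41.localRing M := ⟨ζ, hζm⟩
  have hz : IsPrimitiveRoot z m :=
    IsPrimitiveRoot.of_map_of_injective (f := (H41.localRing M).subtype) hζ Subtype.val_injective
  have hfac := Polynomial.X_pow_sub_one_eq_prod (Nat.pos_of_ne_zero hm0) hz
  have hz1 : H41.res M z ^ m = 1 := by rw [← map_pow, hz.pow_eq_one, map_one]
  have hprim : IsPrimitiveRoot (H41.res M z) m := by
    haveI : NeZero (m : H41.ResField M) :=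
      ⟨fun h => hm ((H41.IsPModular.natCast_eq_zero_iff hM m).1 h)⟩
    -- the roots remain distinct
    have hroots := congrArg (Polynomial.map (H41.res M)) hfac
    rw [Polynomial.map_prod] at hroots
    simp only [Polynomial.map_sub, Polynomial.map_pow, Polynomial.map_X, Polynomial.map_one,
      Polynomial.map_C] at hroots
    have hsep : (Polynomial.X ^ m - (1 : Polynomial (H41.ResField M))).Separable :=
      Polynomial.X_pow_sub_one_separable_iff.2 (NeZero.ne _)
    rw [hroots] at hsep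
    refine IsPrimitiveRoot.iff_def _ _ |>.2 ⟨hz1, fun l hl => ?_⟩
    by_contra hml
    have hinj := hsep.squarefree
    have hl' : H41.res M (z ^ l) = H41.res M 1 := by rw [map_pow, hl, map_one]
    have hne : z ^ l ≠ 1 := fun h => hml (hz.dvd_of_pow_eq_one l h)
    have hmem1 : z ^ l ∈ Polynomial.nthRootsFinset m (1 : H41.localRing M) := by
      rw [Polynomial.mem_nthRootsFinset (Nat.pos_of_ne_zero hm0), ← pow_mul, mul_comm, pow_mul,
        hz.pow_eq_one, one_pow]
    have hmem2 : (1 : H41.localRing M) ∈ Polynomial.nthRootsFinset m (1 : H41.localRing M) := by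
      rw [Polynomial.mem_nthRootsFinset (Nat.pos_of_ne_zero hm0), one_pow]
    refine Polynomial.not_isUnit_of_degree_pos (Polynomial.X - Polynomial.C (H41.res M 1))
      (by rw [Polynomial.degree_X_sub_C]; exact zero_lt_one) (hinj _ ?_)
    rw [← Finset.mul_prod_erase _ _ hmem2,
      ← Finset.mul_prod_erase _ _ (Finset.mem_erase.2 ⟨hne, hmem1⟩), hl', ← mul_assoc]
    exact dvd_mul_right _ _
  haveI : NeZero m := ⟨hm0⟩
  have hex : ∀ q, ∃ i < m, H41.res M z ^ i = r q := fun q =>
    hprim.eq_pow_of_pow_eq_one (hrm q)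
  choose i him hi using hex
  let μ : Q → ℂˣ := fun q => (hζ.isUnit hm0).unit ^ i q
  have hμz : ∀ q, (μ q : ℂ) = ((z ^ i q : H41.localRing M) : ℂ) := fun q => by
    push_cast [μ]
    rfl
  have hu : IsPrimitiveRoot (hζ.isUnit hm0).unit m := hζ.isUnit_unit hm0
  have hmod : ∀ {j l : ℕ}, H41.res M z ^ j = H41.res M z ^ l →
      (hζ.isUnit hm0).unit ^ j = (hζ.isUnit hm0).unit ^ l := fun {j l} h => by
    rw [← pow_mod_orderOf _ j, ← pow_mod_orderOf _ l, ← hu.eq_orderOf]
    rw [← pow_mod_orderOf _ j, ← pow_mod_orderOf _ l, ← hprim.eq_orderOf] at h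
    rw [hprim.pow_inj (Nat.mod_lt _ (Nat.pos_of_ne_zero hm0))
      (Nat.mod_lt _ (Nat.pos_of_ne_zero hm0)) h]
  refine ⟨MonoidHom.mk' μ fun q q' => ?_, fun q => ⟨?_, ?_⟩⟩
  · show (hζ.isUnit hm0).unit ^ i (q * q') = _ * _
    rw [← pow_add]
    refine hmod ?_
    rw [pow_add, hi, hi, hi, map_mul]
  · show (μ q : ℂ) ∈ _
    rw [hμz]
    exact SetLike.coe_mem _
  · show red M (μ q : ℂ) = _
    rw [hμz, red_coe, map_pow, hi]

/-- An extension of a principal character whose every restriction above `N` is principal. -/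
theorem exists_principal_extension (hM : Cfsg.IsPModular p M) (hθ : θ ∈ Cfsg.principalBlock M N)
    (hE : ∀ n : N, E.1 (n : G) = θ.1 n) (P : Sylow p N)
    (hcov : ∀ q : G ⧸ N, ∃ c : G, (c : G ⧸ N) = q ∧ ∀ y ∈ (P : Subgroup N), Commute (y : G) c) :
    ∃ χ : Cfsg.IrrCharacter G, (∀ n : N, χ.1 (n : G) = θ.1 n) ∧
      ∀ f : G → ℕ, NInv N f →
        Cfsg.MemLocalIdeal M (scalar χ f - ((∑ g, f g : ℕ) : ℂ)) := by
  classical
  obtain ⟨r, hr⟩ := exists_ratio N hM hθ hE P hcov
  obtain ⟨μ, hμ⟩ := exists_lift (Q := G ⧸ N) hM r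
  have : Fintype (G ⧸ N) := Fintype.ofFinite _
  have hirr : Cfsg.IsIrrCharacter N fun n : N => E.1 n := by
    rw [show (fun n : N => E.1 n) = θ.1 from funext hE]
    exact θ.2
  let η : Cfsg.IrrCharacter (G ⧸ N) := ⟨_, H26.isIrrCharacter_hom μ⁻¹⟩
  refine ⟨⟨_, H45.isIrrCharacter_extMul N E hirr η⟩, fun n => ?_, fun f hf => ?_⟩
  · show E.1 n * ((μ⁻¹ : (G ⧸ N) →* ℂˣ) ((n : G) : G ⧸ N) : ℂ) = _
    rw [(QuotientGroup.eq_one_iff _).2 n.2, map_one, Units.val_one, mul_one, hE]
  set F : G ⧸ N → G → ℕ := fun q g => if (g : G ⧸ N) = q then f g else 0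
  have hF : ∀ q, NInv N (F q) := fun q n hn g => by
    simp only [F]
    rw [QuotientGroup.mk_mul, QuotientGroup.mk_mul, QuotientGroup.mk_inv,
      (QuotientGroup.eq_one_iff n).2 hn, one_mul, inv_one, mul_one, hf n hn]
  have hFq : ∀ q, OnCoset N q (F q) := fun q g hg => by
    by_contra h
    exact hg (if_neg h)
  have hsplit : scalar (⟨_, H45.isIrrCharacter_extMul N E hirr η⟩ : Cfsg.IrrCharacter G) f =
      ∑ q, ((μ q⁻¹ : ℂˣ) : ℂ) * scalar E (F q) := by
    have h1 : (H45.extMul N E η.1) 1 = E.1 1 := by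
      show E.1 1 * ((μ⁻¹ : (G ⧸ N) →* ℂˣ) ((1 : G) : G ⧸ N) : ℂ) = _
      rw [QuotientGroup.mk_one, map_one, Units.val_one, mul_one]
    unfold scalar
    simp only [h1, ← mul_div_assoc, ← Finset.sum_div, Finset.mul_sum]
    congr 1
    rw [Finset.sum_comm]
    refine Finset.sum_congr rfl fun g _ => ?_
    rw [Finset.sum_eq_single (g : G ⧸ N) (fun q _ hq => by
      simp [F, Ne.symm hq]) (fun h => absurd (Finset.mem_univ _) h)]
    simp only [F, if_pos]
    show (f g : ℂ) * (E.1 g * ((μ⁻¹ : (G ⧸ N) →* ℂˣ) (g : G ⧸ N) : ℂ)) = _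
    rw [MonoidHom.inv_apply, ← map_inv]
    ring
  have hint : ∀ q, scalar E (F q) ∈ H41.localRing M := fun q =>
    H41.isIntegral_mem_localRing (scalar_mul N hE (hF q) fun _ => 0).2
  have hterm : ∀ q, ((μ q⁻¹ : ℂˣ) : ℂ) * scalar E (F q) ∈ H41.localRing M := fun q =>
    mul_mem (hμ _).1 (hint q)
  have hred : red M (scalar (⟨_, H45.isIrrCharacter_extMul N E hirr η⟩ : Cfsg.IrrCharacter G) f) =
      ((∑ g, f g : ℕ) : H41.ResField M) := by
    rw [hsplit, red_sum _ fun q _ => hterm q, Finset.sum_congr rfl fun q _ => by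
      rw [red_mul (hμ _).1 (hint q), (hμ _).2, hr q _ (hF q) (hFq q), ← mul_assoc, ← map_mul,
        inv_mul_cancel, map_one, one_mul]]
    simp only [aug, ← Nat.cast_sum]
    rw [Finset.sum_comm]
    simp [F]
  have hmem : scalar (⟨_, H45.isIrrCharacter_extMul N E hirr η⟩ : Cfsg.IrrCharacter G) f ∈
      H41.localRing M := hsplit ▸ sum_mem fun q _ => hterm q
  rw [H41.memLocalIdeal_iff_res]
  refine ⟨sub_mem hmem (natCast_mem _ _), ?_⟩
  rw [← red_natCast, red_of_mem (natCast_mem _ _), red_of_mem hmem, ← sub_eq_zero, ← map_sub] at hred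
  exact hred

/-- Congruence on orbit sums gives the principal block of every overgroup. -/
theorem restrict_mem_principalBlock {χ : Cfsg.IrrCharacter G}
    (hres : ∀ n : N, χ.1 (n : G) = θ.1 n)
    (hχ : ∀ f : G → ℕ, NInv N f → Cfsg.MemLocalIdeal M (scalar χ f - ((∑ g, f g : ℕ) : ℂ)))
    (J : Subgroup G) (hNJ : N ≤ J) :
    ∃ ξ : Cfsg.IrrCharacter J, ξ ∈ Cfsg.principalBlock M J ∧ ∀ y : J, ξ.1 y = χ.1 (y : G) := by
  classical
  have : Fintype J := Fintype.ofFinite _
  set N' := N.subgroupOf J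
  have : Fintype N' := Fintype.ofFinite _
  let ε : N' ≃* N := Subgroup.subgroupOfEquivOfLe hNJ
  have hirr : Cfsg.IsIrrCharacter J fun y : J => χ.1 (y : G) := by
    refine H45.isIrrCharacter_of_restrict N'
      (H26.isCharacter_comp (H26.irr_isCharacter χ) J.subtype) ?_
    rw [show (fun n : N' => (fun y : J => χ.1 (y : G)) n) = (H43.irrCongr ε θ).1 from
      funext fun n => hres (ε n)]
    exact Subtype.prop _
  refine ⟨⟨_, hirr⟩, ?_, fun y => rfl⟩
  intro g
  set f : G → ℕ := fun x => if h : x ∈ J then (if IsConj g ⟨x, h⟩ then 1 else 0) else 0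
  have hf : NInv N f := by
    intro n hn x
    by_cases hx : x ∈ J
    · have hx' : n * x * n⁻¹ ∈ J := J.mul_mem (J.mul_mem (hNJ hn) hx) (J.inv_mem (hNJ hn))
      simp only [f, dif_pos hx, dif_pos hx']
      have hc : IsConj (⟨x, hx⟩ : J) ⟨n * x * n⁻¹, hx'⟩ :=
        isConj_iff.2 ⟨⟨n, hNJ hn⟩, Subtype.ext rfl⟩
      exact if_congr ⟨fun h => h.trans hc.symm, fun h => h.trans hc⟩ rfl rfl
    · have hx' : n * x * n⁻¹ ∉ J := fun h => hx (by
        simpa [mul_assoc] using J.mul_mem (J.mul_mem (J.inv_mem (hNJ hn)) h) (hNJ hn))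
      simp only [f, dif_neg hx, dif_neg hx']
  have hfJ : ∀ y : J, f (y : G) = if IsConj g y then 1 else 0 := fun y => by
    simp only [f, dif_pos y.2, Subtype.coe_eta]
  have hsum : ∀ F : G → ℂ, ∑ x, (f x : ℂ) * F x =
      ∑ y ∈ Finset.univ.filter (fun y : J => IsConj g y), F (y : G) := by
    intro F
    refine Eq.symm (Finset.sum_bij_ne_zero (fun y _ _ => (y : G)) (fun _ _ _ => Finset.mem_univ _)
      (fun _ _ _ _ _ _ h => Subtype.ext h) (fun x _ hx => ?_) (fun y hy _ => ?_))
    · have hxJ : x ∈ J := by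
        by_contra h
        simp [f, h] at hx
      have hc : IsConj g ⟨x, hxJ⟩ := by
        by_contra h
        refine hx ?_
        rw [show f x = f ((⟨x, hxJ⟩ : J) : G) from rfl, hfJ, if_neg h, Nat.cast_zero, zero_mul]
      refine ⟨⟨x, hxJ⟩, Finset.mem_filter.2 ⟨Finset.mem_univ _, hc⟩, fun h => hx ?_, rfl⟩
      change F x = 0 at h
      rw [h, mul_zero]
    · rw [hfJ, if_pos (Finset.mem_filter.1 hy).2, Nat.cast_one, one_mul]
  have hcard : ((Subgroup.centralizer ({g} : Set J)).index : ℂ) = ((∑ x, f x : ℕ) : ℂ) := by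
    rw [H25.index_centralizer_eq_card_class, Nat.card_eq_fintype_card, Fintype.card_subtype,
      Nat.cast_sum, ← Finset.sum_congr rfl fun x _ => mul_one (f x : ℂ), hsum, Finset.sum_const,
      nsmul_eq_mul, mul_one]
  have hval : scalar χ f = Cfsg.centralChar (fun y : J => χ.1 (y : G)) g := by
    rw [scalar, hsum, Cfsg.centralChar, Subgroup.coe_one,
      Finset.sum_congr rfl (g := fun _ => χ.1 (g : G)) fun y hy => ?_, Finset.sum_const,
      nsmul_eq_mul, H25.index_centralizer_eq_card_class, Nat.card_eq_fintype_card,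
      Fintype.card_subtype]
    obtain ⟨d, hd⟩ := isConj_iff.1 (Finset.mem_filter.1 hy).2
    subst hd
    rw [Subgroup.coe_mul, Subgroup.coe_mul, InvMemClass.coe_inv, H26.irr_conj]
  have h := hχ f hf
  rw [hval, ← hcard] at h
  have h1 : Cfsg.centralChar (fun _ : J => (1 : ℂ)) g =
      ((Subgroup.centralizer ({g} : Set J)).index : ℂ) := by
    rw [Cfsg.centralChar, mul_one, div_one]
  rw [h1]
  obtain ⟨hm, hres'⟩ := H41.memLocalIdeal_iff_res.1 h
  rw [H41.memLocalIdeal_iff_res]
  refine ⟨by simpa using neg_mem hm, ?_⟩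
  rw [← neg_eq_zero, ← map_neg] 
  refine Eq.trans (congrArg _ (Subtype.ext ?_)) hres'
  push_cast
  ring

end Cfsg.Agent.H42.PrinExt
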