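import Cfsg.Agent.H22.PairDefectDict
import Cfsg.Agent.H22.Frobenius
import Cfsg.Agent.H40.BlockDefect
import Cfsg.Agent.H42.Central
import Cfsg.Agent.S4828
import Cfsg.Agent.S0955

/-!
# Blocks are of defect zero or of full defect when radical subgroups have small centralisers

If every non-trivial radical `p`-subgroup `P` satisfies `C(P) ≤ P ⊔ Z(G)`, a block of positive
defect has a Sylow defect group.
-/

set_option autoImplicit false

namespace Cfsg.Agent.H42

open Cfsg

universe u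

variable {G : Type u} [Group G] [Finite G] {p : ℕ} [Fact p.Prime] {M : Ideal AlgInt}

/-- A character of `C(Q)` trivial on `Z(Q)` is fixed by `N(Q)` when `C(Q) ≤ Q ⊔ Z(G)`. -/
theorem conj_fixed_of_small_centralizer {Q : Subgroup G}
    (hC : Subgroup.centralizer (Q : Set G) ≤ Q ⊔ Subgroup.center G)
    (θ : IrrCharacter (Subgroup.centralizer (Q : Set G)))
    (hker : ∀ z : Subgroup.centralizer (Q : Set G), (z : G) ∈ Q →
      (θ : Subgroup.centralizer (Q : Set G) → ℂ) z = (θ : Subgroup.centralizer (Q : Set G) → ℂ) 1)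
    {g : G} (hg : g ∈ Subgroup.normalizer (Q : Set G))
    (k k' : Subgroup.centralizer (Q : Set G)) (hk : (k' : G) = g * (k : G) * g⁻¹) :
    (θ : Subgroup.centralizer (Q : Set G) → ℂ) k' = (θ : Subgroup.centralizer (Q : Set G) → ℂ) k := by
  obtain ⟨q, hq, z, hz, he⟩ := Subgroup.mem_sup_of_normal_right.1 (hC k.2)
  have hzC : z ∈ Subgroup.centralizer (Q : Set G) := Subgroup.center_le_centralizer _ hz
  have hqC : q ∈ Subgroup.centralizer (Q : Set G) := by
    rw [show q = (k : G) * z⁻¹ by rw [← he, mul_inv_cancel_right]]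
    exact mul_mem k.2 (inv_mem hzC)
  have hcen : ∀ a : Subgroup.centralizer (Q : Set G), (a : G) ∈ Q →
      a ∈ Subgroup.center (Subgroup.centralizer (Q : Set G)) := fun a ha =>
    Subgroup.mem_center_iff.2 fun c => Subtype.ext (Subgroup.mem_centralizer_iff.1 c.2 (a : G) ha).symm
  have hgq : g * q * g⁻¹ ∈ Q := (Subgroup.mem_normalizer_iff.1 hg q).1 hq
  have hgC : g * q * g⁻¹ ∈ Subgroup.centralizer (Q : Set G) := by
    rw [show g * q * g⁻¹ = (k' : G) * z⁻¹ by
      have hzg : g * z = z * g := Subgroup.mem_center_iff.1 hz g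
      rw [hk, ← he, show g * (q * z) * g⁻¹ * z⁻¹ = g * q * (z * g⁻¹) * z⁻¹ by group,
        show z * g⁻¹ = g⁻¹ * z from (Subgroup.mem_center_iff.1 hz g⁻¹).symm]
      group]
    exact mul_mem k'.2 (inv_mem hzC)
  have e1 : k = (⟨q, hqC⟩ : Subgroup.centralizer (Q : Set G)) * ⟨z, hzC⟩ := Subtype.ext he.symm
  have e2 : k' = (⟨g * q * g⁻¹, hgC⟩ : Subgroup.centralizer (Q : Set G)) * ⟨z, hzC⟩ := by
    apply Subtype.ext
    show (k' : G) = g * q * g⁻¹ * z
    rw [hk, ← he, mul_assoc (g * q) g⁻¹ z, Subgroup.mem_center_iff.1 hz g⁻¹]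
    group
  rw [e1, e2, irr_central_mul θ (hcen ⟨_, hgC⟩ hgq), irr_central_mul θ (hcen ⟨q, hqC⟩ hq),
    hker ⟨_, hgC⟩ hgq, hker ⟨q, hqC⟩ hq]

/-- **Defect zero or full defect.** -/
theorem blockDefect_eq_zero_or_full (hM : IsPModular p M)
    (hrad : ∀ P : Subgroup G, IsPGroup p P → P ≠ ⊥ →
      (pCore p (Subgroup.normalizer (P : Set G))).map (Subgroup.normalizer (P : Set G)).subtype = P →
      Subgroup.centralizer (P : Set G) ≤ P ⊔ Subgroup.center G)
    (B : Set (IrrCharacter G)) (hB : IsPBlock M B) :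
    blockDefect p B = 0 ∨ blockDefect p B = (Nat.card G).factorization p := by
  refine or_iff_not_imp_left.2 fun h0 => ?_
  have := hM.2.1
  have := H41.IsPModular.charP hM
  have hS := H22.split M G
  have hb := H22.isBlockEl_elTop (M := M) hB
  have hbot : H22.IsPairEl p ⊤ ((⊥ : Subgroup G), H22.elTop M B) :=
    ⟨bot_le, IsPGroup.of_bot, by rw [H22.cen_bot]; exact hb⟩
  have hbel : H22.Below (H22.elTop M B) ((⊥ : Subgroup G), H22.elTop M B) := by
    rw [H22.Below, H22.cut_of_supp, hb.idem]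
    intro x _
    simp [Subgroup.mem_centralizer_iff]
  obtain ⟨⟨Q, ε⟩, hc, -⟩ := H22.exists_isMaxEl_ge hb hbot hbel
  obtain ⟨e, he, rfl⟩ := H22.exists_of_isPairEl (M := M) hc.pair
  have hQd : IsDefectGroup p M B Q := (H22.isDefectGroup_top_iff hM hB).2 (hc.isDefEl hS hb)
  have hmax : IsMaximalBrauerPair p M B Q e :=
    H22.isMaximal_iff.2 ⟨(H22.isBrauerPairOf_iff hB he).2 hc.below, hc⟩
  obtain ⟨θ, hθ, hker, -, hst⟩ := (S4828.result p M hM Q e he).1 ⟨B, hmax⟩
  have hcard := H40.card_defectGroup hM hB hQd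
  have hQ1 : Q ≠ ⊥ := by
    intro hbot'
    rw [hbot', Subgroup.card_bot] at hcard
    exact h0 ((Nat.pow_eq_one.1 hcard.symm).resolve_left (Fact.out : p.Prime).ne_one)
  have hC := hrad Q he.1 hQ1 (S0955.result p M hM B hB Q hQd)
  -- `Q` is a Sylow subgroup
  obtain ⟨P, hQP⟩ := he.1.exists_le_sylow
  have hPQ : (P : Subgroup G) = Q := by
    by_contra hne
    have hlt : Q < (P : Subgroup G) := lt_of_le_of_ne hQP (Ne.symm hne)
    obtain ⟨g, hg, hgQ⟩ := SetLike.exists_of_lt (H22.lt_inf_normalizer_of_lt P.2 hlt)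
    obtain ⟨hgP, hgN⟩ := Subgroup.mem_inf.1 hg
    have hgC : g ∈ Subgroup.normalizer ((Subgroup.centralizer (Q : Set G)) : Set G) :=
      H22.normalizer_le_normalizer_centralizer Q hgN
    have hord : ∃ k : ℕ, orderOf g = p ^ k := by
      obtain ⟨k, hk⟩ := IsPGroup.iff_orderOf.1 P.2 ⟨g, hgP⟩
      exact ⟨k, by rw [← hk, Subgroup.orderOf_mk]⟩
    have hstab : StabilizesBlock (Subgroup.centralizer (Q : Set G)) e g := by
      refine (H22.stabilizesBlock_iff he.2 hgC).2 ?_
      have hK := H22.cS_eq_self hgC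
      rw [← H22.el_conjSet g _ _ hK e]
      congr 1
      refine H41.block_eq_of_mem_of_mem (H22.isPBlock_conjSet hK he.2) he.2 ?_ hθ
      refine (H22.mem_image_iff _ _ _).2 ⟨θ, hθ, fun k' => ?_⟩
      exact conj_fixed_of_small_centralizer hC θ hker hgN _ k' (by simp [mul_assoc])
    have hmem := hst g hgN hstab hord
    obtain ⟨q, hq, c, hc', he'⟩ : ∃ q ∈ Q, ∃ c ∈ Subgroup.center G, q * c = g :=
      Subgroup.mem_sup_of_normal_right.1 (sup_le le_sup_left hC hmem)
    -- `c` is a central `p`-element, so it lies in `Q`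
    have hcP : c ∈ (P : Subgroup G) := by
      rw [show c = q⁻¹ * g by rw [← he']; group]
      exact mul_mem (inv_mem (hQP hq)) hgP
    have hcQ : c ∈ Q := by
      rw [← S0955.result p M hM B hB Q hQd]
      have hcN : c ∈ Subgroup.normalizer (Q : Set G) :=
        Subgroup.centralizer_le_normalizer _ (Subgroup.center_le_centralizer _ hc')
      refine ⟨⟨c, hcN⟩, ?_, rfl⟩
      have hn : (Subgroup.zpowers (⟨c, hcN⟩ : Subgroup.normalizer (Q : Set G))).Normal :=
        ⟨fun a ha b => by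
          obtain ⟨i, rfl⟩ := Subgroup.mem_zpowers_iff.1 ha
          rw [← conj_zpow]
          refine ⟨i, ?_⟩
          show (⟨c, hcN⟩ : Subgroup.normalizer (Q : Set G)) ^ i = (b * ⟨c, hcN⟩ * b⁻¹) ^ i
          congr 1
          exact Subtype.ext (by
            show c = (b : G) * c * (b : G)⁻¹
            rw [Subgroup.mem_center_iff.1 hc' b, mul_inv_cancel_right])⟩
      obtain ⟨k, hk⟩ := IsPGroup.iff_orderOf.1 P.2 ⟨c, hcP⟩
      exact H40.le_pCore hn (IsPGroup.of_card (n := k) (by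
        rw [Nat.card_zpowers, Subgroup.orderOf_mk, ← hk, Subgroup.orderOf_mk]))
        (Subgroup.mem_zpowers _)
    exact hgQ (he' ▸ mul_mem hq hcQ)
  have h1 := P.card_eq_multiplicity
  rw [hPQ, hcard] at h1
  exact Nat.pow_right_injective (Fact.out : p.Prime).two_le h1

end Cfsg.Agent.H42
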