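import Cfsg.Agent.H39.Intertwiner
import Cfsg.Agent.H39.FullyRamified
import Cfsg.Agent.H43.SubConj
import Cfsg.Agent.H43.InvariantAbove
import Cfsg.Agent.H45.Gallagher
import Cfsg.Agent.H79.OrbitCoprime

/-!
# `p`-complements of quotients of a fully ramified section

If `χ` is fully ramified over `Z` and `K ⊇ Z` is normal, `p`-complements of `H / K` come from the
stabiliser of a constituent of `χ` on a Sylow subgroup `R / Z` of `K / Z`, as soon as the degrees
of these constituents are small.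
-/

set_option autoImplicit false
set_option maxHeartbeats 400000

open scoped ComplexConjugate

namespace Cfsg.Agent.H42

open Cfsg.Agent.H43

variable {H : Type*} [Group H] [Fintype H]

/-- `χ` is `e` times `θ` on `Z` and vanishes off `Z`. -/
structure Ramified (Z : Subgroup H) [Fintype Z] (χ : Cfsg.IrrCharacter H)
    (θ : Cfsg.IrrCharacter Z) (e : ℕ) : Prop where
  restr : ∀ z : Z, χ.1 (z : H) = (e : ℂ) * θ.1 z
  vanish : ∀ g : H, g ∉ Z → χ.1 g = 0

/-- Fully ramified characters vanish off the subgroup. -/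
theorem ramified_of_sq_eq {Z : Subgroup H} [Z.Normal] [Fintype Z] {χ : Cfsg.IrrCharacter H}
    {θ : Cfsg.IrrCharacter Z} {e : ℕ} (he : e ^ 2 = Z.index)
    (hres : ∀ z : Z, χ.1 (z : H) = (e : ℂ) * θ.1 z) : Ramified Z χ θ e :=
  ⟨hres, (H39.vanish_iff_sq_eq_index χ.2 θ.2 (funext fun z => hres z)).2 he⟩

/-- The multiplicity of `θ` in the restriction to `Z` of a character of an overgroup. -/
noncomputable def zMult {Z T : Subgroup H} [Fintype Z] (hZT : Z ≤ T)
    (θ : Cfsg.IrrCharacter Z) (ρ : Cfsg.IrrCharacter T) : ℕ :=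
  mult (fun z : Z => ρ.1 (Subgroup.inclusion hZT z)) θ

variable {Z : Subgroup H} [Fintype Z] {χ : Cfsg.IrrCharacter H} {θ : Cfsg.IrrCharacter Z} {e : ℕ}
variable {T : Subgroup H} [Fintype T]

/-- The multiplicity in `χ` of a character that is `f` times `θ` on `Z`. -/
theorem Ramified.mult_mul_relIndex (h : Ramified Z χ θ e) (hZT : Z ≤ T)
    (ρ : Cfsg.IrrCharacter T) {f : ℕ}
    (hf : ∀ z : Z, ρ.1 (Subgroup.inclusion hZT z) = (f : ℂ) * θ.1 z) :
    mult (fun t : T => χ.1 (t : H)) ρ * Z.relIndex T = e * f := by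
  classical
  have hch : Cfsg.IsCharacter T (fun t : T => χ.1 (t : H)) :=
    H26.isCharacter_comp (H26.irr_isCharacter χ) T.subtype
  have h1 := classInner_eq_mult hch ρ
  rw [Cfsg.classInner] at h1
  let ι : Z ↪ T := ⟨fun z => Subgroup.inclusion hZT z, Subgroup.inclusion_injective hZT⟩
  have h2 : ∑ t : T, χ.1 (t : H) * conj (ρ.1 t) =
      (e : ℂ) * (f : ℂ) * (Nat.card Z : ℂ) := by
    rw [← Finset.sum_subset (Finset.subset_univ (Finset.univ.map ι)) fun t _ ht => ?_,
      Finset.sum_map]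
    · have h3 := sum_mul_conj θ θ
      rw [if_pos rfl] at h3
      rw [← h3, Finset.mul_sum]
      refine Finset.sum_congr rfl fun z _ => ?_
      show χ.1 ((Subgroup.inclusion hZT z : T) : H) * _ = _
      rw [Subgroup.coe_inclusion, h.restr]
      show _ * conj (ρ.1 (Subgroup.inclusion hZT z)) = _
      rw [hf, map_mul, Complex.conj_natCast]
      ring
    · rw [h.vanish _ fun hz => ht (Finset.mem_map.2 ⟨⟨t, hz⟩, Finset.mem_univ _, Subtype.ext rfl⟩),
        zero_mul]
  rw [h2] at h1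
  have h4 : Nat.card Z * Z.relIndex T = Nat.card T := by
    rw [← Subgroup.relIndex_bot_left, ← Subgroup.relIndex_bot_left,
      Subgroup.relIndex_mul_relIndex _ _ _ bot_le hZT]
  have h5 : (e : ℂ) * f * (Nat.card Z : ℂ) =
      (Nat.card T : ℂ) * (mult (fun t : T => χ.1 (t : H)) ρ : ℂ) := by
    rw [← h1, mul_inv_cancel_left₀ (Nat.cast_ne_zero.2 Nat.card_pos.ne')]
  have h6 : e * f * Nat.card Z = Nat.card T * mult (fun t : T => χ.1 (t : H)) ρ := by
    exact_mod_cast h5
  rw [← h4] at h6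
  refine (Nat.eq_of_mul_eq_mul_left (Nat.card_pos (α := Z)) ?_).symm
  rw [mul_comm (Nat.card Z) (e * f), h6]
  ring

/-- A constituent restricts to a multiple of `θ`. -/
theorem Ramified.restr_constituent (h : Ramified Z χ θ e) (hZT : Z ≤ T)
    {ρ : Cfsg.IrrCharacter T} (hρ : mult (fun t : T => χ.1 (t : H)) ρ ≠ 0) :
    0 < zMult hZT θ ρ ∧
      ∀ z : Z, ρ.1 (Subgroup.inclusion hZT z) = (zMult hZT θ ρ : ℂ) * θ.1 z := by
  classical
  have hch : Cfsg.IsCharacter T (fun t : T => χ.1 (t : H)) :=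
    H26.isCharacter_comp (H26.irr_isCharacter χ) T.subtype
  set j : Z →* T := Subgroup.inclusion hZT with hj
  have hzero : ∀ ψ : Cfsg.IrrCharacter Z, ψ ≠ θ → mult (fun z : Z => ρ.1 (j z)) ψ = 0 := by
    intro ψ hψ
    by_contra h0
    refine mult_ne_zero_comp j hch hρ h0 (mult_eq_of_classInner ?_)
    rw [Nat.cast_zero, show (fun z : Z => (fun t : T => χ.1 (t : H)) (j z)) = (e : ℂ) • θ.1 from
      funext fun z => h.restr z, H26.classInner_smul_left, H26.classInner_irr,
      if_neg (Ne.symm hψ), mul_zero]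
  have hexp : (fun z : Z => ρ.1 (j z)) =
      ∑ ψ : Cfsg.IrrCharacter Z, (mult (fun z : Z => ρ.1 (j z)) ψ : ℂ) • ψ.1 :=
    eq_sum_mult (H26.isCharacter_comp (H26.irr_isCharacter ρ) j)
  have hv : ∀ z : Z, ρ.1 (j z) = (zMult hZT θ ρ : ℂ) * θ.1 z := by
    intro z
    have := congrFun hexp z
    rw [Finset.sum_apply, Finset.sum_eq_single θ (fun ψ _ hψ => by
      rw [hzero ψ hψ, Nat.cast_zero, zero_smul, Pi.zero_apply])
      (fun h' => absurd (Finset.mem_univ _) h')] at this
    exact this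
  refine ⟨Nat.pos_of_ne_zero fun h0 => H26.irr_one_ne_zero ρ ?_, hv⟩
  have := hv 1
  rwa [map_one, h0, Nat.cast_zero, zero_mul] at this

/-- The degree of a constituent. -/
theorem Ramified.degree_constituent (h : Ramified Z χ θ e) (hZT : Z ≤ T)
    {ρ : Cfsg.IrrCharacter T} (hρ : mult (fun t : T => χ.1 (t : H)) ρ ≠ 0) :
    ρ.1 1 = (zMult hZT θ ρ : ℂ) * θ.1 1 := by
  simpa using (h.restr_constituent hZT hρ).2 1

/-- The squares of the ramification numbers of the constituents sum to `|T : Z|`. -/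
theorem Ramified.sum_zMult_sq (h : Ramified Z χ θ e) (hZT : Z ≤ T) :
    ∑ ρ ∈ Finset.univ.filter (fun ρ : Cfsg.IrrCharacter T =>
        mult (fun t : T => χ.1 (t : H)) ρ ≠ 0), zMult hZT θ ρ ^ 2 = Z.relIndex T := by
  classical
  have hch : Cfsg.IsCharacter T (fun t : T => χ.1 (t : H)) :=
    H26.isCharacter_comp (H26.irr_isCharacter χ) T.subtype
  set Ω := Finset.univ.filter (fun ρ : Cfsg.IrrCharacter T =>
        mult (fun t : T => χ.1 (t : H)) ρ ≠ 0) with hΩ
  have h1 : (e : ℂ) * θ.1 1 =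
      (∑ ρ ∈ Ω, mult (fun t : T => χ.1 (t : H)) ρ * zMult hZT θ ρ : ℕ) * θ.1 1 := by
    have h0 := apply_one_eq_sum_mult hch
    rw [Subgroup.coe_one, ← Subgroup.coe_one Z, h.restr 1] at h0
    rw [h0, ← Finset.sum_filter_add_sum_filter_not Finset.univ (fun ρ : Cfsg.IrrCharacter T =>
        mult (fun t : T => χ.1 (t : H)) ρ ≠ 0),
      Finset.sum_eq_zero (s := Finset.univ.filter fun ρ : Cfsg.IrrCharacter T =>
        ¬ mult (fun t : T => χ.1 (t : H)) ρ ≠ 0) fun ρ hρ => by
          rw [Decidable.not_not.1 (Finset.mem_filter.1 hρ).2, Nat.cast_zero, zero_mul],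
      add_zero, Nat.cast_sum, Finset.sum_mul]
    refine Finset.sum_congr rfl fun ρ hρ => ?_
    rw [← irr_charDegree_spec, h.degree_constituent hZT (Finset.mem_filter.1 hρ).2]
    push_cast
    ring
  have h2 : e = ∑ ρ ∈ Ω, mult (fun t : T => χ.1 (t : H)) ρ * zMult hZT θ ρ := by
    exact_mod_cast mul_right_cancel₀ (H26.irr_one_ne_zero θ) h1
  have he : 0 < e := by
    refine Nat.pos_of_ne_zero fun h0 => H26.irr_one_ne_zero χ ?_
    have := h.restr 1
    rwa [h0, Nat.cast_zero, zero_mul] at this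
  refine Nat.eq_of_mul_eq_mul_left he ?_
  conv_rhs => rw [h2, Finset.sum_mul]
  rw [Finset.mul_sum]
  refine Finset.sum_congr rfl fun ρ hρ => ?_
  rw [mul_right_comm, h.mult_mul_relIndex hZT ρ
    (h.restr_constituent hZT (Finset.mem_filter.1 hρ).2).2]
  ring

section Sylow

variable [Z.Normal] {K : Subgroup H} [K.Normal] {p : ℕ} [hp : Fact p.Prime]

/-- The index of `Z ⊔ P` is prime to `p`. -/
theorem not_dvd_index_sup (P : Sylow p H) : ¬ p ∣ (Z ⊔ (P : Subgroup H)).index := fun h =>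
  P.not_dvd_index (h.trans (Subgroup.index_dvd_of_le le_sup_right))

/-- The `p`-part of an index. -/
theorem relIndex_sup_eq (hZK : Z ≤ K) (P : Sylow p H) :
    K.relIndex (Z ⊔ (P : Subgroup H)) = p ^ K.index.factorization p := by
  have hS := not_dvd_index_sup (Z := Z) P
  set S := Z ⊔ (P : Subgroup H)
  obtain ⟨a, ha⟩ : ∃ a, K.relIndex S = p ^ a := by
    obtain ⟨j, hj⟩ := IsPGroup.iff_card.1 P.2
    have h1 : K.relIndex S ∣ p ^ j := by
      refine (Subgroup.relIndex_dvd_of_le_left S hZK).trans ?_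
      rw [Subgroup.relIndex_sup_left, ← hj]
      exact Subgroup.relIndex_dvd_card Z (P : Subgroup H)
    obtain ⟨i, -, hi⟩ := (Nat.dvd_prime_pow hp.out).1 h1
    exact ⟨i, hi⟩
  have h1 : K.relIndex (K ⊔ S) * (K ⊔ S).index = K.index :=
    Subgroup.relIndex_mul_index le_sup_left
  rw [Subgroup.relIndex_sup_left, ha] at h1
  have h2 : ¬ p ∣ (K ⊔ S).index := fun h => hS (h.trans (Subgroup.index_dvd_of_le le_sup_right))
  rw [ha, ← h1, Nat.factorization_mul (pow_ne_zero _ hp.out.ne_zero)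
    Subgroup.index_ne_zero_of_finite, Finsupp.add_apply, hp.out.factorization_pow,
    Finsupp.single_eq_same, Nat.factorization_eq_zero_of_not_dvd h2, add_zero]

variable {R : Subgroup H} [Fintype R]

/-- Constituents of `χ` on a subgroup are permuted by its normaliser. -/
theorem mult_subConj (x : Subgroup.normalizer (R : Set H)) (ξ : Cfsg.IrrCharacter R) :
    mult (fun r : R => χ.1 (r : H)) (subConj R x ξ) = mult (fun r : R => χ.1 (r : H)) ξ := by
  rw [← H45.mult_congr (R.normalizerMonoidHom x) (fun r : R => χ.1 (r : H)) ξ]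
  unfold subConj
  refine congrArg (fun φ => mult φ _) (funext fun r => ?_)
  rw [normalizerMonoidHom_coe, H26.irr_conj]

/-- The number of constituents as an orbit length. -/
theorem card_constituents_eq_relIndex {A : Subgroup H}
    (hA : A ≤ Subgroup.normalizer (R : Set H))
    (htrans : ∀ ξ ξ' : Cfsg.IrrCharacter R, mult (fun r : R => χ.1 (r : H)) ξ ≠ 0 →
      mult (fun r : R => χ.1 (r : H)) ξ' ≠ 0 →
      ∃ x : Subgroup.normalizer (R : Set H), (x : H) ∈ A ∧ subConj R x ξ = ξ')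
    {ξ : Cfsg.IrrCharacter R} (hξ : mult (fun r : R => χ.1 (r : H)) ξ ≠ 0) :
    (conjStab R ξ.1).relIndex A = Nat.card {η : Cfsg.IrrCharacter R //
      mult (fun r : R => χ.1 (r : H)) η ≠ 0} := by
  let φ : A →* MulAut R := R.normalizerMonoidHom.comp (Subgroup.inclusion hA)
  let := irrAction φ
  have hsmul : ∀ (a : A) (η : Cfsg.IrrCharacter R),
      a • η = subConj R ⟨(a : H)⁻¹, inv_mem (hA a.2)⟩ η := fun a η => rfl
  have horb : MulAction.orbit A ξ = {η | mult (fun r : R => χ.1 (r : H)) η ≠ 0} := by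
    ext η
    refine ⟨?_, fun hη => ?_⟩
    · rintro ⟨a, rfl⟩
      show mult (fun r : R => χ.1 (r : H)) (a • ξ) ≠ 0
      rwa [hsmul, mult_subConj]
    · obtain ⟨x, hxA, hx⟩ := htrans ξ η hξ hη
      refine ⟨⟨(x : H)⁻¹, A.inv_mem hxA⟩, ?_⟩
      show (⟨(x : H)⁻¹, A.inv_mem hxA⟩ : A) • ξ = η
      rw [hsmul, ← hx]
      congr 1
      exact Subtype.ext (inv_inv (x : H))
  have hstab : MulAction.stabilizer A ξ = (conjStab R ξ.1).subgroupOf A := by
    ext a
    rw [MulAction.mem_stabilizer_iff, hsmul, Subgroup.mem_subgroupOf, ← inv_mem_iff,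
      mem_conjStab_iff_subConj]
  rw [Subgroup.relIndex, ← hstab, Subgroup.index_eq_card,
    ← Nat.card_congr (MulAction.orbitEquivQuotientStabilizer A ξ)]
  exact Nat.card_congr (Equiv.setCongr horb)

end Sylow

section Complement

variable [Z.Normal] {K : Subgroup H} [K.Normal] {p : ℕ} [hp : Fact p.Prime]

/-- The constituents on `R = (Z ⊔ P) ⊓ K` are conjugate under `Z ⊔ P`. -/
theorem Ramified.exists_subConj (h : Ramified Z χ θ e) (hidx : e ^ 2 = Z.index) (hZK : Z ≤ K)
    (P : Sylow p H) {R : Subgroup H} [Fintype R] (hR : R = (Z ⊔ (P : Subgroup H)) ⊓ K)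
    (ξ ξ' : Cfsg.IrrCharacter R) (hξ : mult (fun r : R => χ.1 (r : H)) ξ ≠ 0)
    (hξ' : mult (fun r : R => χ.1 (r : H)) ξ' ≠ 0) :
    ∃ x : Subgroup.normalizer (R : Set H),
      (x : H) ∈ Z ⊔ (P : Subgroup H) ∧ subConj R x ξ = ξ' := by
  classical
  set S := Z ⊔ (P : Subgroup H) with hSdef
  have : Fintype S := Fintype.ofFinite _
  have hZS : Z ≤ S := le_sup_left
  have hRS : R ≤ S := hR ▸ inf_le_left
  have hSn : S ≤ Subgroup.normalizer (R : Set H) := le_normalizer_of_conj_mem fun s hs r hr => by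
    rw [hR] at hr ⊢
    exact ⟨S.mul_mem (S.mul_mem hs hr.1) (S.inv_mem hs), ‹K.Normal›.conj_mem r hr.2 s⟩
  -- a single constituent on `S`
  obtain ⟨a, ha⟩ : ∃ a, Z.relIndex S = p ^ a ∧ 2 * e.factorization p = a := by
    refine ⟨Z.index.factorization p, relIndex_sup_eq (K := Z) le_rfl P, ?_⟩
    rw [← hidx, Nat.factorization_pow, Finsupp.smul_apply, smul_eq_mul]
  set Ω := Finset.univ.filter (fun η : Cfsg.IrrCharacter S =>
    mult (fun s : S => χ.1 (s : H)) η ≠ 0) with hΩ
  have he0 : e ≠ 0 := fun h0 => by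
    rw [h0, zero_pow two_ne_zero] at hidx
    exact Subgroup.index_ne_zero_of_finite hidx.symm
  have hlow : ∀ η ∈ Ω, p ^ e.factorization p ≤ zMult hZS θ η := by
    intro η hη
    obtain ⟨hf0, hf⟩ := h.restr_constituent hZS (Finset.mem_filter.1 hη).2
    have hm := h.mult_mul_relIndex hZS η hf
    rw [ha.1, ← ha.2, two_mul, pow_add] at hm
    have hdvd : p ^ (e.factorization p + e.factorization p) ∣ e * zMult hZS θ η :=
      ⟨_, by rw [← hm, pow_add, mul_comm]⟩
    rw [hp.out.pow_dvd_iff_le_factorization (Nat.mul_ne_zero he0 hf0.ne'),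
      Nat.factorization_mul he0 hf0.ne', Finsupp.add_apply] at hdvd
    exact Nat.le_of_dvd hf0 ((hp.out.pow_dvd_iff_le_factorization hf0.ne').2 (by omega))
  have hcard : Ω.card ≤ 1 := by
    have h1 := h.sum_zMult_sq hZS
    rw [ha.1, ← ha.2, mul_comm 2, pow_mul, ← hΩ] at h1
    have h2 : Ω.card * (p ^ e.factorization p) ^ 2 ≤ ∑ η ∈ Ω, zMult hZS θ η ^ 2 := by
      rw [← smul_eq_mul, ← Finset.sum_const]
      exact Finset.sum_le_sum fun η hη => Nat.pow_le_pow_left (hlow η hη) 2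
    rw [h1] at h2
    exact Nat.le_of_mul_le_mul_right (by rwa [one_mul]) (pow_pos (pow_pos hp.out.pos _) _)
  -- transfer to the normal subgroup of `S`
  set R' := R.subgroupOf S with hR'
  have : R'.Normal := Subgroup.normal_subgroupOf_of_le_normalizer hSn
  have : Fintype R' := Fintype.ofFinite _
  let ε : R' ≃* R := Subgroup.subgroupOfEquivOfLe hRS
  have hch : Cfsg.IsCharacter S (fun s : S => χ.1 (s : H)) :=
    H26.isCharacter_comp (H26.irr_isCharacter χ) S.subtype
  have hunder : ∀ ζ : Cfsg.IrrCharacter R, mult (fun r : R => χ.1 (r : H)) ζ ≠ 0 →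
      ∃ η ∈ Ω, restrMult R' η (irrCongr ε ζ) ≠ 0 := by
    intro ζ hζ
    rw [← H45.mult_congr ε, show (fun r : R' => χ.1 ((ε r : R) : H)) =
      fun r : R' => (fun s : S => χ.1 (s : H)) (R'.subtype r) from funext fun r => rfl,
      mult_comp R'.subtype hch] at hζ
    obtain ⟨η, -, hη⟩ := Finset.exists_ne_zero_of_sum_ne_zero hζ
    exact ⟨η, Finset.mem_filter.2 ⟨Finset.mem_univ _, left_ne_zero_of_mul hη⟩,
      right_ne_zero_of_mul hη⟩
  obtain ⟨η, hη, hη1⟩ := hunder ξ hξ
  obtain ⟨η', hη', hη2⟩ := hunder ξ' hξ'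
  obtain rfl := Finset.card_le_one.1 hcard η hη η' hη'
  obtain ⟨s, hs⟩ := exists_irrConj_of_restrMult_ne_zero R' η hη1 hη2
  refine ⟨⟨(s : H), hSn s.2⟩, s.2, Subtype.ext (funext fun r => ?_)⟩
  have := congrFun (congrArg Subtype.val hs) (ε.symm r)
  rw [irrCongr_apply, MulEquiv.apply_symm_apply] at this
  rw [← this, irrConj_apply, irrCongr_apply, subConj_apply]
  refine congrArg ξ.1 (Subtype.ext ?_)
  obtain ⟨y, rfl⟩ := ε.surjective r
  rw [MulEquiv.symm_apply_apply]
  rfl

/-- If all constituents of `χ` on `R` have small degree, `H / K` has a `p`-complement. -/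
theorem Ramified.exists_pComplement (h : Ramified Z χ θ e) (hidx : e ^ 2 = Z.index) (hZK : Z ≤ K)
    (P : Sylow p H) {R : Subgroup H} [Fintype R] (hR : R = (Z ⊔ (P : Subgroup H)) ⊓ K)
    (hZR : Z ≤ R)
    (hdiv : ∀ ξ : Cfsg.IrrCharacter R, mult (fun r : R => χ.1 (r : H)) ξ ≠ 0 →
      p ^ K.index.factorization p * zMult hZR θ ξ ∣ e) :
    ∃ U : Subgroup H, K ≤ U ∧ U.index = p ^ K.index.factorization p := by
  classical
  set S := Z ⊔ (P : Subgroup H) with hSdef
  set n := p ^ K.index.factorization p with hn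
  have hRS : R ≤ S := hR ▸ inf_le_left
  have hRK : R ≤ K := hR ▸ inf_le_right
  have hSn : S ≤ Subgroup.normalizer (R : Set H) := le_normalizer_of_conj_mem fun s hs r hr => by
    rw [hR] at hr ⊢
    exact ⟨S.mul_mem (S.mul_mem hs hr.1) (S.inv_mem hs), ‹K.Normal›.conj_mem r hr.2 s⟩
  have hn0 : 0 < n := pow_pos hp.out.pos _
  have hRSn : R.relIndex S = n := by
    rw [hR, Subgroup.inf_relIndex_left, relIndex_sup_eq hZK P]
  obtain ⟨ξ, hξ⟩ : ∃ ξ : Cfsg.IrrCharacter R, mult (fun r : R => χ.1 (r : H)) ξ ≠ 0 := by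
    by_contra hno
    push Not at hno
    have h1 := apply_one_eq_sum_mult (φ := fun r : R => χ.1 (r : H))
      (H26.isCharacter_comp (H26.irr_isCharacter χ) R.subtype)
    simp only [hno, Nat.cast_zero, zero_mul, Finset.sum_const_zero, Subgroup.coe_one] at h1
    exact H26.irr_one_ne_zero χ h1
  set Ω := Finset.univ.filter (fun ρ : Cfsg.IrrCharacter R =>
        mult (fun t : R => χ.1 (t : H)) ρ ≠ 0) with hΩ
  have htr := fun a b ha hb => h.exists_subConj hidx hZK P hR a b ha hb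
  -- all constituents have the same degree
  have hsame : ∀ ρ ∈ Ω, zMult hZR θ ρ = zMult hZR θ ξ := by
    intro ρ hρ
    obtain ⟨x, -, hx⟩ := htr ξ ρ hξ (Finset.mem_filter.1 hρ).2
    have h1 : ρ.1 1 = ξ.1 1 := by rw [← hx, subConj_apply, map_one]
    rw [h.degree_constituent hZR (Finset.mem_filter.1 hρ).2, h.degree_constituent hZR hξ] at h1
    exact_mod_cast mul_right_cancel₀ (H26.irr_one_ne_zero θ) h1
  set f := zMult hZR θ ξ with hf
  have hf0 : 0 < f := (h.restr_constituent hZR hξ).1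
  have hsum : Ω.card * f ^ 2 = Z.relIndex R := by
    rw [← h.sum_zMult_sq hZR, ← hΩ, Finset.sum_congr rfl fun ρ hρ => by rw [hsame ρ hρ],
      Finset.sum_const, smul_eq_mul]
  set T := conjStab R ξ.1 with hT
  have hcardΩ : Nat.card {η : Cfsg.IrrCharacter R //
      mult (fun r : R => χ.1 (r : H)) η ≠ 0} = Ω.card := by
    rw [Nat.card_eq_fintype_card, Fintype.card_subtype]
  have hrS : T.relIndex S = Ω.card := (card_constituents_eq_relIndex hSn htr hξ).trans hcardΩ
  have hrN : T.relIndex (Subgroup.normalizer (R : Set H)) = Ω.card :=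
    (card_constituents_eq_relIndex le_rfl (fun a b ha hb => by
      obtain ⟨x, -, hx⟩ := htr a b ha hb
      exact ⟨x, x.2, hx⟩) hξ).trans hcardΩ
  have hRT : R ≤ T := le_conjStab_self R ξ
  -- the number of constituents
  have hle : Ω.card ≤ n := by
    rw [← hrS, ← hRSn]
    exact Nat.le_of_dvd (hRSn ▸ hn0) (Subgroup.relIndex_dvd_of_le_left S hRT)
  have hge : n ≤ Ω.card := by
    have hq : Z.relIndex R * n = p ^ Z.index.factorization p := by
      rw [← hRSn, Subgroup.relIndex_mul_relIndex _ _ _ hZR hRS]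
      exact relIndex_sup_eq (K := Z) le_rfl P
    have he0 : e ≠ 0 := fun h0 => by
      rw [h0, zero_pow two_ne_zero] at hidx
      exact Subgroup.index_ne_zero_of_finite hidx.symm
    have hd : n * f ∣ p ^ e.factorization p := by
      have h1 : n * f ∣ p ^ Z.index.factorization p := by
        refine ⟨Ω.card * f, ?_⟩
        rw [← hq, ← hsum]
        ring
      obtain ⟨i, -, hi⟩ := (Nat.dvd_prime_pow hp.out).1 h1
      rw [hi]
      exact pow_dvd_pow _ ((hp.out.pow_dvd_iff_le_factorization he0).1 (hi ▸ hdiv ξ hξ))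
    have h2 : (n * f) ^ 2 ≤ Ω.card * f ^ 2 * n := by
      rw [hsum, hq, ← hidx, Nat.factorization_pow, Finsupp.smul_apply, smul_eq_mul, mul_comm 2,
        pow_mul]
      exact Nat.pow_le_pow_left (Nat.le_of_dvd (pow_pos hp.out.pos _) hd) 2
    refine Nat.le_of_mul_le_mul_right (c := f ^ 2 * n) ?_ (Nat.mul_pos (pow_pos hf0 _) hn0)
    calc n * (f ^ 2 * n) = (n * f) ^ 2 := by ring
      _ ≤ _ := h2
      _ = Ω.card * (f ^ 2 * n) := by ring
  have hTn : T.relIndex (Subgroup.normalizer (R : Set H)) = n := by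
    rw [hrN]
    omega
  have hTN : T ≤ Subgroup.normalizer (R : Set H) := fun x hx => hx.1
  -- `T / R` has order prime to `p`
  have hTR : ¬ p ∣ R.relIndex T := by
    intro hd
    have h1 : p * n ∣ n * S.index := by
      calc p * n ∣ R.relIndex T * T.relIndex (Subgroup.normalizer (R : Set H)) :=
            mul_dvd_mul hd (hTn ▸ dvd_rfl)
        _ = R.relIndex (Subgroup.normalizer (R : Set H)) :=
            Subgroup.relIndex_mul_relIndex _ _ _ hRT hTN
        _ ∣ R.index := Subgroup.relIndex_dvd_index_of_le Subgroup.le_normalizer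
        _ = n * S.index := by rw [← hRSn, Subgroup.relIndex_mul_index hRS]
    rw [mul_comm p n] at h1
    exact not_dvd_index_sup (Z := Z) P (Nat.dvd_of_mul_dvd_mul_left hn0 h1)
  refine ⟨T ⊔ K, le_sup_right, le_antisymm ?_ ?_⟩
  · -- Frattini
    set Q := (P : Subgroup H) ⊓ K with hQ
    have hQp : IsPGroup p (Q.subgroupOf K) :=
      (P.2.to_le inf_le_left).of_equiv (Subgroup.subgroupOfEquivOfLe (inf_le_right : Q ≤ K)).symm
    have hQi : ¬ p ∣ (Q.subgroupOf K).index := by
      intro hd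
      refine P.not_dvd_index (hd.trans ?_)
      rw [show (Q.subgroupOf K).index = (P : Subgroup H).relIndex K by
        rw [← Subgroup.inf_relIndex_right]; rfl]
      exact H79.relIndex_normal_dvd_index _ _
    have hFr := Sylow.normalizer_sup_eq_top (hQp.toSylow hQi)
    have hQR : (Subgroup.normalizer (((Q.subgroupOf K).map K.subtype : Subgroup H) : Set H)) ≤
        Subgroup.normalizer (R : Set H) := by
      rw [Subgroup.map_subgroupOf_eq_of_le (inf_le_right : Q ≤ K)]
      refine le_normalizer_of_conj_mem fun g hg r hr => ?_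
      rw [hR] at hr ⊢
      refine ⟨?_, ‹K.Normal›.conj_mem r hr.2 g⟩
      obtain ⟨z, hz, y, hy, rfl⟩ := Subgroup.mem_sup_of_normal_left.1 hr.1
      have hyK : y ∈ K := (Subgroup.mul_mem_cancel_left K (hZK hz)).1 hr.2
      have h1 := (Subgroup.mem_normalizer_iff.1 hg y).1 ⟨hy, hyK⟩
      rw [show g * (z * y) * g⁻¹ = (g * z * g⁻¹) * (g * y * g⁻¹) by group]
      exact Subgroup.mul_mem_sup (‹Z.Normal›.conj_mem z hz g) h1.1
    have htop : Subgroup.normalizer (R : Set H) ⊔ K = ⊤ :=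
      top_unique (hFr.ge.trans (sup_le_sup_right hQR K))
    set N := Subgroup.normalizer (R : Set H)
    let F : N ⧸ T.subgroupOf N → H ⧸ (T ⊔ K) := Quotient.map' (fun x : N => (x : H)) fun a b hab => by
      rw [QuotientGroup.leftRel_apply] at hab ⊢
      exact Subgroup.mem_sup_left hab
    have hF : Function.Surjective F := by
      intro q
      obtain ⟨g, rfl⟩ := QuotientGroup.mk_surjective q
      obtain ⟨x, hx, k, hk, rfl⟩ := Subgroup.mem_sup_of_normal_right.1
        (htop ▸ Subgroup.mem_top g : g ∈ N ⊔ K)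
      refine ⟨QuotientGroup.mk ⟨x, hx⟩, QuotientGroup.eq.2 ?_⟩
      rw [inv_mul_cancel_left]
      exact Subgroup.mem_sup_right hk
    rw [← hTn, Subgroup.index_eq_card, Subgroup.relIndex, Subgroup.index_eq_card]
    exact Nat.card_le_card_of_surjective F hF
  · have h1 : K.relIndex (T ⊔ K) * (T ⊔ K).index = K.index :=
      Subgroup.relIndex_mul_index le_sup_right
    rw [Subgroup.relIndex_sup_right] at h1
    have h2 : ¬ p ∣ K.relIndex T := fun hd =>
      hTR (hd.trans (Subgroup.relIndex_dvd_of_le_left T hRK))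
    have h3 : n ∣ K.relIndex T * (T ⊔ K).index := by
      rw [h1]
      exact Nat.ordProj_dvd _ _
    exact Nat.le_of_dvd (Nat.pos_of_ne_zero Subgroup.index_ne_zero_of_finite)
      ((Nat.Coprime.pow_left _ ((Nat.Prime.coprime_iff_not_dvd hp.out).2 h2)).dvd_of_dvd_mul_left h3)

/-- Small degrees when the `p`-part of `H / K` is cyclic. -/
theorem Ramified.dvd_of_cyclic (h : Ramified Z χ θ e) (hidx : e ^ 2 = Z.index) (hZK : Z ≤ K)
    (P : Sylow p H) (hcyc : IsCyclic ((Z ⊔ (P : Subgroup H)).map (QuotientGroup.mk' K)))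
    {R : Subgroup H} [Fintype R] (hR : R = (Z ⊔ (P : Subgroup H)) ⊓ K) (hZR : Z ≤ R)
    (ξ : Cfsg.IrrCharacter R) (hξ : mult (fun r : R => χ.1 (r : H)) ξ ≠ 0) :
    p ^ K.index.factorization p * zMult hZR θ ξ ∣ e := by
  classical
  set S := Z ⊔ (P : Subgroup H) with hSdef
  set n := p ^ K.index.factorization p with hn
  have hRS : R ≤ S := hR ▸ inf_le_left
  have hSn : S ≤ Subgroup.normalizer (R : Set H) := le_normalizer_of_conj_mem fun s hs r hr => by
    rw [hR] at hr ⊢
    exact ⟨S.mul_mem (S.mul_mem hs hr.1) (S.inv_mem hs), ‹K.Normal›.conj_mem r hr.2 s⟩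
  set T := conjStab R ξ.1 ⊓ S with hT
  have : Fintype T := Fintype.ofFinite _
  have hRT : R ≤ T := le_inf (le_conjStab_self R ξ) hRS
  set R' := R.subgroupOf T with hR'
  have : R'.Normal := Subgroup.normal_subgroupOf_of_le_normalizer fun x hx => hx.1.1
  let ε : R' ≃* R := Subgroup.subgroupOfEquivOfLe hRT
  have hcycT : IsCyclic (T ⧸ R') := by
    let g : T →* (S.map (QuotientGroup.mk' K)) :=
      ((QuotientGroup.mk' K).subgroupMap S).comp (Subgroup.inclusion inf_le_right)
    have hker : g.ker = R' := by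
      ext t
      rw [MonoidHom.mem_ker, Subgroup.mem_subgroupOf, hR]
      refine Subtype.ext_iff.trans ?_
      show QuotientGroup.mk' K (t : H) = 1 ↔ _
      rw [QuotientGroup.mk'_apply, QuotientGroup.eq_one_iff]
      exact ⟨fun h => ⟨t.2.2, h⟩, fun h => h.2⟩
    have := hcyc
    have h1 : IsCyclic (T ⧸ g.ker) :=
      isCyclic_of_injective (QuotientGroup.kerLift g) (QuotientGroup.kerLift_injective g)
    exact isCyclic_of_surjective (QuotientGroup.quotientMulEquivOfEq hker)
      (MulEquiv.surjective _)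
  obtain ⟨d, σ, hσ, hchar⟩ := (irrCongr ε ξ).2
  have hv : ∀ r : R', σ.character r = ξ.1 (ε r) := fun r => by rw [hchar]; rfl
  obtain ⟨φ, hφ, hext⟩ := H39.exists_ext_of_cyclic_quotient σ hcycT fun g r => by
    rw [hv, hv]
    obtain ⟨hx, hfix⟩ := g.2.1
    rw [← hfix (ε r)]
    exact congrArg ξ.1 (Subtype.ext rfl)
  have hm := h.mult_mul_relIndex (hZR.trans hRT) ⟨φ, hφ⟩ (f := zMult hZR θ ξ) fun z => by
    show φ (Subgroup.inclusion (hZR.trans hRT) z) = _
    rw [← (h.restr_constituent hZR hξ).2 z,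
      show Subgroup.inclusion (hZR.trans hRT) z =
        ((ε.symm (Subgroup.inclusion hZR z) : R') : T) from Subtype.ext rfl, hext, hv,
      MulEquiv.apply_symm_apply]
  -- count
  have htr := fun a b ha hb => h.exists_subConj hidx hZK P hR a b ha hb
  set Ω := Finset.univ.filter (fun ρ : Cfsg.IrrCharacter R =>
        mult (fun t : R => χ.1 (t : H)) ρ ≠ 0) with hΩ
  set f := zMult hZR θ ξ with hf
  have hsum : Ω.card * f ^ 2 = Z.relIndex R := by
    rw [← h.sum_zMult_sq hZR, ← hΩ, Finset.sum_congr rfl fun ρ hρ => ?_, Finset.sum_const,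
      smul_eq_mul]
    obtain ⟨x, -, hx⟩ := htr ξ ρ hξ (Finset.mem_filter.1 hρ).2
    have h1 : ρ.1 1 = ξ.1 1 := by rw [← hx, subConj_apply, map_one]
    rw [h.degree_constituent hZR (Finset.mem_filter.1 hρ).2, h.degree_constituent hZR hξ] at h1
    exact congrArg (· ^ 2) (by exact_mod_cast mul_right_cancel₀ (H26.irr_one_ne_zero θ) h1)
  have hrS : T.relIndex S = Ω.card := by
    rw [hT, Subgroup.inf_relIndex_right, card_constituents_eq_relIndex hSn htr hξ,
      Nat.card_eq_fintype_card, Fintype.card_subtype]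
  have hRSn : R.relIndex T * Ω.card = n := by
    rw [← hrS, Subgroup.relIndex_mul_relIndex _ _ _ hRT inf_le_right, hR,
      Subgroup.inf_relIndex_left, relIndex_sup_eq hZK P]
  rw [← Subgroup.relIndex_mul_relIndex _ _ _ hZR hRT, ← hsum] at hm
  have hf0 : 0 < f := (h.restr_constituent hZR hξ).1
  refine ⟨mult (fun t : T => χ.1 (t : H)) ⟨φ, hφ⟩, Nat.eq_of_mul_eq_mul_right hf0 ?_⟩
  rw [← hm, ← hRSn]
  ring

/-- Small degrees when `χ` is induced from `K`. -/
theorem Ramified.dvd_of_induced [Fintype K] (h : Ramified Z χ θ e) (hidx : e ^ 2 = Z.index)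
    (hZK : Z ≤ K) (P : Sylow p H) {φ : K → ℂ} (hφ : Cfsg.IsCharacter K φ)
    (hind : Cfsg.indFun K φ = χ.1) {R : Subgroup H} [Fintype R]
    (hR : R = (Z ⊔ (P : Subgroup H)) ⊓ K) (hZR : Z ≤ R)
    (ξ : Cfsg.IrrCharacter R) (hξ : mult (fun r : R => χ.1 (r : H)) ξ ≠ 0) :
    p ^ K.index.factorization p * zMult hZR θ ξ ∣ e := by
  classical
  have hRK : R ≤ K := hR ▸ inf_le_right
  set a := fun ψ : Cfsg.IrrCharacter K => mult φ ψ with ha
  have hinner : ∀ η : Cfsg.IrrCharacter H, Cfsg.classInner (Cfsg.indFun K φ) η.1 =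
      ((∑ ψ : Cfsg.IrrCharacter K, a ψ * mult (fun k : K => η.1 (k : H)) ψ : ℕ) : ℂ) := by
    intro η
    rw [H25.classInner_indFun_left K φ _ (H26.irr_isClassFunction η)]
    conv_lhs => rw [eq_sum_mult hφ, H26.classInner_sum_left]
    push_cast
    refine Finset.sum_congr rfl fun ψ _ => ?_
    have hk : Cfsg.classInner (fun k : K => η.1 (k : H)) ψ.1 =
        (mult (fun k : K => η.1 (k : H)) ψ : ℂ) :=
      classInner_eq_mult (H26.isCharacter_comp (H26.irr_isCharacter η) K.subtype) ψ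
    rw [H26.classInner_smul_left, H26.classInner_comm, hk, Complex.conj_natCast]
  have hone : ∑ ψ : Cfsg.IrrCharacter K, a ψ * mult (fun k : K => χ.1 (k : H)) ψ = 1 := by
    have := hinner χ
    rw [hind, H26.classInner_irr, if_pos rfl] at this
    exact_mod_cast this.symm
  have hzero : ∀ η : Cfsg.IrrCharacter H, η ≠ χ → ∀ ψ : Cfsg.IrrCharacter K,
      a ψ ≠ 0 → mult (fun k : K => η.1 (k : H)) ψ = 0 := by
    intro η hη ψ hψ
    have := hinner η
    rw [hind, H26.classInner_irr, if_neg (Ne.symm hη)] at this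
    have h0 := Finset.sum_eq_zero_iff.1 (Nat.cast_eq_zero.1 this.symm) ψ (Finset.mem_univ _)
    exact (Nat.mul_eq_zero.1 h0).resolve_left hψ
  have hpos : ∀ ψ : Cfsg.IrrCharacter K, a ψ ≠ 0 → mult (fun k : K => χ.1 (k : H)) ψ ≠ 0 := by
    intro ψ hψ
    obtain ⟨η, hη⟩ := exists_above K ψ
    by_cases hηχ : η = χ
    · exact hηχ ▸ hη
    · exact absurd (hzero η hηχ ψ hψ) hη
  obtain ⟨ψ, -, hψ⟩ := Finset.exists_ne_zero_of_sum_ne_zero (hone.trans_ne one_ne_zero)
  rw [← Finset.add_sum_erase _ _ (Finset.mem_univ ψ)] at hone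
  have hrest : ∀ η ∈ Finset.univ.erase ψ, a η = 0 := by
    intro η hη
    by_contra h0
    have h1 := Finset.sum_eq_zero_iff.1 (by omega :
      ∑ η ∈ Finset.univ.erase ψ, a η * mult (fun k : K => χ.1 (k : H)) η = 0) η hη
    exact Nat.mul_ne_zero h0 (hpos η h0) h1
  have haψ : a ψ = 1 := Nat.eq_one_of_mul_eq_one_right
    (n := mult (fun k : K => χ.1 (k : H)) ψ) (by omega)
  have hφψ : φ = ψ.1 := by
    rw [eq_sum_mult hφ, Finset.sum_eq_single ψ (fun η _ hη => by
      rw [show mult φ η = 0 from hrest η (Finset.mem_erase.2 ⟨hη, Finset.mem_univ _⟩),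
        Nat.cast_zero, zero_smul]) (fun h' => absurd (Finset.mem_univ _) h'),
      show mult φ ψ = 1 from haψ, Nat.cast_one, one_smul]
  have hψχ := hpos ψ (by rw [haψ]; exact one_ne_zero)
  -- degrees
  set j : R →* K := Subgroup.inclusion hRK with hj
  have hsame : ∀ ρ : Cfsg.IrrCharacter R, mult (fun r : R => ψ.1 (j r)) ρ ≠ 0 →
      ρ.1 1 = (zMult hZR θ ξ : ℂ) * θ.1 1 := by
    intro ρ hρ
    have h1 : mult (fun r : R => χ.1 (r : H)) ρ ≠ 0 :=
      mult_ne_zero_comp j (H26.isCharacter_comp (H26.irr_isCharacter χ) K.subtype) hψχ hρ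
    obtain ⟨x, -, hx⟩ := h.exists_subConj hidx hZK P hR ξ ρ hξ h1
    rw [← hx, subConj_apply, map_one, h.degree_constituent hZR hξ]
  have hdeg : ψ.1 1 = ((∑ ρ : Cfsg.IrrCharacter R, mult (fun r : R => ψ.1 (j r)) ρ : ℕ) : ℂ) *
      ((zMult hZR θ ξ : ℂ) * θ.1 1) := by
    have h0 := apply_one_eq_sum_mult (φ := fun r : R => ψ.1 (j r))
      (H26.isCharacter_comp (H26.irr_isCharacter ψ) j)
    rw [map_one] at h0
    rw [h0, Nat.cast_sum, Finset.sum_mul]
    refine Finset.sum_congr rfl fun ρ _ => ?_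
    by_cases hρ : mult (fun r : R => ψ.1 (j r)) ρ = 0
    · rw [hρ, Nat.cast_zero, zero_mul, zero_mul]
    · rw [← irr_charDegree_spec, hsame ρ hρ]
  have htot := h.restr 1
  rw [Subgroup.coe_one, ← hind, H25.indFun_one, hφψ, hdeg] at htot
  have he : e = K.index * ((∑ ρ : Cfsg.IrrCharacter R, mult (fun r : R => ψ.1 (j r)) ρ) *
      zMult hZR θ ξ) := by
    have : (e : ℂ) = ((K.index * ((∑ ρ : Cfsg.IrrCharacter R, mult (fun r : R => ψ.1 (j r)) ρ) *
        zMult hZR θ ξ) : ℕ) : ℂ) := by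
      refine mul_right_cancel₀ (H26.irr_one_ne_zero θ) ?_
      rw [← htot]
      push_cast
      ring
    exact_mod_cast this
  rw [he, ← mul_assoc]
  exact mul_dvd_mul_right ((Nat.ordProj_dvd _ _).trans (dvd_mul_right _ _)) _

/-- A subgroup of the right index gives a `p`-complement of the quotient. -/
theorem exists_index_quotient {U : Subgroup H} (hKU : K ≤ U)
    (hU : U.index = p ^ K.index.factorization p) :
    (U.map (QuotientGroup.mk' K)).index = p ^ (Nat.card (H ⧸ K)).factorization p := by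
  rw [Subgroup.index_map_eq _ (QuotientGroup.mk'_surjective K)
    (by rwa [QuotientGroup.ker_mk']), hU, Subgroup.index_eq_card]

end Complement

end Cfsg.Agent.H42
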