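import Cfsg.Agent.H32.Constrained
import Cfsg.Agent.H19.Fitting
import Cfsg.Agent.H43.CharKer

/-!
# The principal block of a solvable group
-/

set_option autoImplicit false

namespace Cfsg.Agent.H42

universe u

variable {G : Type u} [Group G] [Fintype G] {p : ℕ} [hp : Fact p.Prime] {M : Ideal Cfsg.AlgInt}

/-- For solvable groups the principal block consists of the characters trivial on `O_{p'}`. -/
theorem mem_principalBlock_iff_of_solvable [Group.IsSolvable G] (hM : Cfsg.IsPModular p M)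
    (χ : Cfsg.IrrCharacter G) :
    χ ∈ Cfsg.principalBlock M G ↔ ∀ n ∈ Cfsg.pPrimeCore p G, χ.1 n = χ.1 1 := by
  classical
  have := hM.2.1
  have := H19.pPrimeCore_normal p G
  set O := Cfsg.pPrimeCore p G with hO
  have : Fintype O := Fintype.ofFinite O
  have hn : ¬ p ∣ Nat.card O :=
    (Nat.Prime.coprime_iff_not_dvd hp.out).1 (H19.pPrimeCore_coprime p).symm
  refine ⟨fun h => H41.eq_one_of_sameBlock O hM hn (χ := H26.oneIrr G) h (fun _ _ => rfl),
    fun h => ?_⟩
  have := H19.pCore_normal p (G ⧸ O)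
  set q := QuotientGroup.mk' O with hq
  set K := (Cfsg.pCore p (G ⧸ O)).comap q with hK
  have hOK : O ≤ K := fun x hx => by
    show q x ∈ Cfsg.pCore p (G ⧸ O)
    rw [hq, QuotientGroup.mk'_apply, (QuotientGroup.eq_one_iff x).2 hx]
    exact one_mem _
  have hsurj : Function.Surjective q := QuotientGroup.mk'_surjective O
  obtain ⟨k, hk⟩ := IsPGroup.iff_card.1 (H19.pCore_isPGroup p (G := G ⧸ O))
  have hrel : O.relIndex K = p ^ k := by
    have h1 : q.ker = O := QuotientGroup.ker_mk' O
    rw [← h1, Subgroup.relIndex_ker, hK, Subgroup.map_comap_eq_self_of_surjective hsurj, hk]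
  have hcore : Cfsg.pPrimeCore p (G ⧸ O) = ⊥ := H19.pPrimeCore_quotient_pPrimeCore p
  refine H32.sameBlock_of_over O (θ := H26.oneIrr O) hM hn
    (fun g => Subtype.ext (funext fun n => rfl)) K hOK ⟨k, hrel⟩ (fun Q hQK hQp hQc => ?_)
    (χ := H26.oneIrr G) (χ' := χ) (H41.classInner_oneIrr_ne_zero O fun _ _ => rfl)
    (H41.classInner_oneIrr_ne_zero O h)
  -- the image of `Q` is the whole `p`-core
  have hdisj : Q.map q = Cfsg.pCore p (G ⧸ O) := by
    refine Subgroup.eq_of_le_of_card_ge (by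
      rintro _ ⟨x, hx, rfl⟩; exact hQK hx) ?_
    have hinj : Function.Injective (fun x : Q => q x) := fun a b hab => by
      have h1 : ((a : G))⁻¹ * b ∈ O := QuotientGroup.eq.1 hab
      have h2 : ((a : G))⁻¹ * b ∈ Q := Q.mul_mem (Q.inv_mem a.2) b.2
      obtain ⟨j, hj⟩ := IsPGroup.iff_orderOf.1 hQp ⟨_, h2⟩
      rw [Subgroup.orderOf_mk] at hj
      have h3 : orderOf (((a : G))⁻¹ * b) = 1 := Nat.eq_one_of_dvd_coprimes
        (Nat.Coprime.pow_left j ((Nat.Prime.coprime_iff_not_dvd hp.out).2 hn))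
        (dvd_of_eq hj) (by
          have := orderOf_dvd_natCard (⟨_, h1⟩ : O)
          rwa [Subgroup.orderOf_mk] at this)
      exact Subtype.ext (inv_mul_eq_one.1 (orderOf_eq_one_iff.1 h3))
    have hle : Nat.card Q ≤ Nat.card (Q.map q) :=
      Nat.card_le_card_of_injective (fun x : Q => (⟨q x, Subgroup.mem_map_of_mem q x.2⟩ : Q.map q))
        fun a b hab => hinj (congrArg Subtype.val hab)
    refine le_trans (le_of_eq ?_) hle
    rw [hQc, hk]
    congr 1
    have hcK : Nat.card K = Nat.card O * p ^ k := by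
      rw [← hrel, ← Nat.card_congr (Subgroup.subgroupOfEquivOfLe hOK).toEquiv]
      exact (O.subgroupOf K).card_mul_index.symm
    rw [hcK, Nat.factorization_mul Nat.card_pos.ne' (pow_ne_zero _ hp.out.ne_zero),
      Finsupp.add_apply, Nat.factorization_eq_zero_of_not_dvd hn, Nat.Prime.factorization_pow hp.out,
      Finsupp.single_eq_same, zero_add]
  intro x hx
  show q x ∈ Cfsg.pCore p (G ⧸ O)
  refine H19.centralizer_pCore_le hcore ?_
  rw [← hdisj, Subgroup.mem_centralizer_iff]
  rintro _ ⟨y, hy, rfl⟩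
  rw [← map_mul, ← map_mul, Subgroup.mem_centralizer_iff.1 hx y hy]

end Cfsg.Agent.H42
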